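import Groth.Agent.Chow.ProjEmb.Data
import Mathlib

/-!
# Coordinates on a projective scheme and linear forms in them
-/

set_option autoImplicit false

universe u

open CategoryTheory CategoryTheory.Limits AlgebraicGeometry

namespace Groth.RedSub2.EtSection

variable {X : Scheme.{u}}

/-- Restriction of sections. -/
noncomputable abbrev rr {V W : X.Opens} (h : V ≤ W) : Γ(X, W) →+* Γ(X, V) :=
  (X.presheaf.map (homOfLE h).op).hom

theorem rr_rr {U V W : X.Opens} (h : U ≤ V) (h' : V ≤ W) (x : Γ(X, W)) :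
    rr h (rr h' x) = rr (h.trans h') x := by
  show (X.presheaf.map _ ≫ X.presheaf.map _) x = _
  rw [← Functor.map_comp]
  rfl

theorem basicOpen_rr {V W : X.Opens} (h : V ≤ W) (x : Γ(X, W)) :
    X.basicOpen (rr h x) = V ⊓ X.basicOpen x :=
  Scheme.basicOpen_res _ _ _

theorem isUnit_rr_of_le {V W : X.Opens} (h : V ≤ W) (x : Γ(X, W)) (hV : V ≤ X.basicOpen x) :
    IsUnit (rr h x) := by
  have h1 := (X.toLocallyRingedSpace.toRingedSpace.isUnit_res_basicOpen x).map (rr hV)
  exact (rr_rr hV (X.basicOpen_le x) x) ▸ h1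

section sec

variable {B : Type u} [CommRing B] (g : X ⟶ Spec (CommRingCat.of B))

/-- The sections over an open coming from the base ring. -/
noncomputable def sec (V : X.Opens) : B →+* Γ(X, V) :=
  ((Scheme.ΓSpecIso (CommRingCat.of B)).inv ≫ g.appLE ⊤ V le_top).hom

theorem rr_sec {V W : X.Opens} (h : V ≤ W) (r : B) : rr h (sec g W r) = sec g V r := by
  show (((Scheme.ΓSpecIso (CommRingCat.of B)).inv ≫ g.appLE ⊤ W le_top) ≫ X.presheaf.map _) r = _
  rw [Category.assoc, Scheme.Hom.appLE_map]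
  rfl

theorem basicOpen_sec (V : X.Opens) (r : B) :
    X.basicOpen (sec g V r) = V ⊓ g ⁻¹ᵁ PrimeSpectrum.basicOpen r := by
  show X.basicOpen (g.appLE ⊤ V le_top _) = _
  rw [Scheme.basicOpen_appLE]
  congr 2
  exact basicOpen_eq_of_affine (R := CommRingCat.of B) r

theorem fromSpec_comp_eq {V : X.Opens} (hV : IsAffineOpen V) :
    hV.fromSpec ≫ g = Spec.map (CommRingCat.ofHom (sec g V)) := by
  rw [← (isAffineOpen_top (Spec (CommRingCat.of B))).SpecMap_appLE_fromSpec g hV le_top,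
    IsAffineOpen.fromSpec_top, Scheme.isoSpec_Spec_inv, ← Spec.map_comp]
  rfl

/-- The kernel of an evaluation on the base ring is the image point. -/
theorem asIdeal_apply {V : X.Opens} (hV : IsAffineOpen V) {K : Type u} [Field K] (χ : Γ(X, V) →+* K) :
    (g (hV.fromSpec ⟨RingHom.ker χ, RingHom.ker_isPrime χ⟩)).asIdeal = RingHom.ker (χ.comp (sec g V)) := by
  rw [← Scheme.Hom.comp_apply, fromSpec_comp_eq]
  rfl

end sec

/-- Coordinates on a scheme, as for a subscheme of projective space. -/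
structure Atlas (X : Scheme.{u}) (n : ℕ) where
  U : Fin (n + 1) → X.Opens
  affine : ∀ c, IsAffineOpen (U c)
  cov : ⨆ c, U c = ⊤
  t : ∀ c, Fin (n + 1) → Γ(X, U c)
  self : ∀ c, t c c = 1
  transition : ∀ c l j (V : X.Opens) (hc : V ≤ U c) (hl : V ≤ U l),
    rr hc (t c j) = rr hc (t c l) * rr hl (t l j)
  inf : ∀ c l, U c ⊓ U l = X.basicOpen (t c l)

namespace Atlas

variable {n : ℕ} (𝒰 : Atlas X n)

theorem exists_mem (x : X) : ∃ c, x ∈ 𝒰.U c :=
  TopologicalSpace.Opens.mem_iSup.1 (show x ∈ ⨆ c, 𝒰.U c by rw [𝒰.cov]; trivial)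

/-- The pulled back coordinates. -/
noncomputable def pb {X' : Scheme.{u}} (π : X' ⟶ X) [IsAffineHom π] : Atlas X' n where
  U c := π ⁻¹ᵁ 𝒰.U c
  affine c := (𝒰.affine c).preimage π
  cov := by rw [← Scheme.Hom.preimage_iSup, 𝒰.cov]; rfl
  t c j := π.app (𝒰.U c) (𝒰.t c j)
  self c := by rw [𝒰.self, map_one]
  transition c l j V hc hl := by
    have h := congrArg (π.appLE (𝒰.U c ⊓ 𝒰.U l) V (le_inf hc hl))
      (𝒰.transition c l j _ inf_le_left inf_le_right)
    rw [map_mul] at h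
    have key : ∀ (W : X.Opens) (hW : 𝒰.U c ⊓ 𝒰.U l ≤ W) (hV : V ≤ π ⁻¹ᵁ W) (x : Γ(X, W)),
        π.appLE (𝒰.U c ⊓ 𝒰.U l) V (le_inf hc hl) (rr hW x) = rr hV (π.app W x) := fun W hW hV x => by
      show (X.presheaf.map (homOfLE hW).op ≫ π.appLE (𝒰.U c ⊓ 𝒰.U l) V (le_inf hc hl)) x =
        (π.app W ≫ X'.presheaf.map (homOfLE hV).op) x
      rw [Scheme.Hom.map_appLE, Scheme.Hom.app_eq_appLE, Scheme.Hom.appLE_map]
    rwa [key _ _ hc, key _ _ hc, key _ _ hl] at h
  inf c l := by rw [← Scheme.Hom.preimage_inf, 𝒰.inf, Scheme.preimage_basicOpen]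

variable {B : Type u} [CommRing B] (g : X ⟶ Spec (CommRingCat.of B))

/-- The coordinates generate over the base. -/
def Generates : Prop :=
  ∀ c, Subring.closure (Set.range (sec g (𝒰.U c)) ∪ Set.range (𝒰.t c)) = ⊤

/-- A linear form in the coordinates on a chart. -/
noncomputable def form (b : Fin (n + 1) → B) (c : Fin (n + 1)) : Γ(X, 𝒰.U c) :=
  ∑ j, sec g (𝒰.U c) (b j) * 𝒰.t c j

theorem form_transition (b : Fin (n + 1) → B) (c l : Fin (n + 1)) (V : X.Opens) (hc : V ≤ 𝒰.U c)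
    (hl : V ≤ 𝒰.U l) : rr hc (𝒰.form g b c) = rr hc (𝒰.t c l) * rr hl (𝒰.form g b l) := by
  simp only [form, map_sum, map_mul, Finset.mul_sum, rr_sec]
  refine Finset.sum_congr rfl fun j _ => ?_
  rw [𝒰.transition c l j V hc hl]
  ring

/-- The open where a linear form does not vanish. -/
noncomputable def openOf (b : Fin (n + 1) → B) : X.Opens := ⨆ c, X.basicOpen (𝒰.form g b c)

theorem openOf_inf (b : Fin (n + 1) → B) (c : Fin (n + 1)) :
    𝒰.openOf g b ⊓ 𝒰.U c = X.basicOpen (𝒰.form g b c) := by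
  refine le_antisymm ?_ (le_inf (le_iSup (fun c => X.basicOpen (𝒰.form g b c)) c) (X.basicOpen_le _))
  rw [openOf, iSup_inf_eq, iSup_le_iff]
  intro l
  let V := 𝒰.U c ⊓ 𝒰.U l
  have h1 : X.basicOpen (𝒰.form g b l) ⊓ 𝒰.U c ≤ V := le_inf inf_le_right
    (inf_le_left.trans (X.basicOpen_le _))
  have h2 := congrArg X.basicOpen (𝒰.form_transition g b c l V inf_le_left inf_le_right)
  rw [X.basicOpen_mul, basicOpen_rr, basicOpen_rr, basicOpen_rr] at h2
  intro x hx
  have h3 : x ∈ V ⊓ X.basicOpen (𝒰.form g b c) :=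
    h2.ge ⟨⟨h1 hx, (𝒰.inf c l).le (h1 hx)⟩, h1 hx, hx.1⟩
  exact h3.2

end Atlas

section pullback

variable {A B : Type u} [CommRing A] [CommRing B] [Algebra A B] {X' : Scheme.{u}} {π : X' ⟶ X}
  {g' : X' ⟶ Spec (CommRingCat.of B)} {g : X ⟶ Spec (CommRingCat.of A)}

theorem sec_algebraMap (w : π ≫ g = g' ≫ Spec.map (CommRingCat.ofHom (algebraMap A B)))
    (U : X.Opens) (V : X'.Opens) (e : V ≤ π ⁻¹ᵁ U) (a : A) :
    π.appLE U V e (sec g U a) = sec g' V (algebraMap A B a) := by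
  have h1 : ((Scheme.ΓSpecIso (CommRingCat.of A)).inv ≫ (Spec.map (CommRingCat.ofHom (algebraMap A B))).appTop) =
      CommRingCat.ofHom (algebraMap A B) ≫ (Scheme.ΓSpecIso (CommRingCat.of B)).inv :=
    (Scheme.ΓSpecIso_inv_naturality _).symm
  show ((Scheme.ΓSpecIso (CommRingCat.of A)).inv ≫ g.appLE ⊤ U le_top ≫ π.appLE U V e) a =
    (CommRingCat.ofHom (algebraMap A B) ≫ (Scheme.ΓSpecIso (CommRingCat.of B)).inv ≫ g'.appLE ⊤ V le_top) a
  congr 2
  rw [← Category.assoc (CommRingCat.ofHom _), ← h1, Category.assoc, Scheme.Hom.appLE_comp_appLE]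
  congr 1
  simp only [w]
  rw [Scheme.Hom.comp_appLE]
  rfl

variable {U : X.Opens} (hU : IsAffineOpen U) [IsAffineHom π]

theorem fromSpec_comp_pi {R : CommRingCat.{u}} (φ : Γ(X', π ⁻¹ᵁ U) ⟶ R) :
    Spec.map φ ≫ (hU.preimage π).fromSpec ≫ π = Spec.map (π.app U ≫ φ) ≫ hU.fromSpec := by
  rw [← hU.SpecMap_appLE_fromSpec π (hU.preimage π) le_rfl, Spec.map_comp, Category.assoc,
    Scheme.Hom.app_eq_appLE]

/-- Ring maps out of an affine open of the base change. -/
theorem hom_ext (P : IsPullback π g' g (Spec.map (CommRingCat.ofHom (algebraMap A B)))) {R : Type u}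
    [CommRing R] (φ φ' : Γ(X', π ⁻¹ᵁ U) →+* R)
    (h₁ : φ.comp (π.app U).hom = φ'.comp (π.app U).hom)
    (h₂ : φ.comp (sec g' _) = φ'.comp (sec g' _)) (hU : IsAffineOpen U) : φ = φ' := by
  have h := P.hom_ext (k := Spec.map (CommRingCat.ofHom φ) ≫ (hU.preimage π).fromSpec)
    (l := Spec.map (CommRingCat.ofHom φ') ≫ (hU.preimage π).fromSpec) (by
      rw [Category.assoc, Category.assoc, fromSpec_comp_pi hU, fromSpec_comp_pi hU]
      congr 2
      exact CommRingCat.hom_ext h₁) (by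
      rw [Category.assoc, Category.assoc, fromSpec_comp_eq, ← Spec.map_comp, ← Spec.map_comp]
      congr 1
      exact CommRingCat.hom_ext h₂)
  rw [cancel_mono] at h
  exact congrArg CommRingCat.Hom.hom (Spec.map_injective h)

/-- Points of an affine open of the base change. -/
theorem exists_lift (P : IsPullback π g' g (Spec.map (CommRingCat.ofHom (algebraMap A B))))
    (hU : IsAffineOpen U) {K : Type u} [CommRing K] (ψ : Γ(X, U) →+* K) (χB : B →+* K)
    (h : ψ.comp (sec g U) = χB.comp (algebraMap A B)) :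
    ∃ χ : Γ(X', π ⁻¹ᵁ U) →+* K, χ.comp (π.app U).hom = ψ ∧ χ.comp (sec g' _) = χB := by
  let Φ : Spec (CommRingCat.of K) ⟶ X' := P.lift (Spec.map (CommRingCat.ofHom ψ) ≫ hU.fromSpec)
    (Spec.map (CommRingCat.ofHom χB)) (by
      rw [Category.assoc, fromSpec_comp_eq, ← Spec.map_comp, ← Spec.map_comp, ← CommRingCat.ofHom_comp,
        ← CommRingCat.ofHom_comp, h])
  have hΦ : Set.range Φ ⊆ Set.range (hU.preimage π).fromSpec := by
    rw [IsAffineOpen.range_fromSpec]
    rintro _ ⟨p, rfl⟩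
    show π (Φ p) ∈ U
    rw [← Scheme.Hom.comp_apply, P.lift_fst, Scheme.Hom.comp_apply, ← SetLike.mem_coe,
      ← hU.range_fromSpec]
    exact ⟨_, rfl⟩
  obtain ⟨χ, hχ⟩ := Spec.map_surjective (IsOpenImmersion.lift (hU.preimage π).fromSpec Φ hΦ)
  have hfac : Spec.map χ ≫ (hU.preimage π).fromSpec = Φ := by rw [hχ, IsOpenImmersion.lift_fac]
  refine ⟨χ.hom, ?_, ?_⟩
  · have h1 := congrArg (· ≫ π) hfac
    simp only [Category.assoc, fromSpec_comp_pi hU, Φ, P.lift_fst, cancel_mono] at h1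
    exact congrArg CommRingCat.Hom.hom (Spec.map_injective h1)
  · have h1 := congrArg (· ≫ g') hfac
    simp only [Category.assoc, fromSpec_comp_eq, Φ, P.lift_snd, ← Spec.map_comp] at h1
    exact congrArg CommRingCat.Hom.hom (Spec.map_injective h1)

end pullback

/-! ### Subschemes of projective space -/

section proj

open Groth.Chow

variable {A : Type u} [CommRing A] {n : ℕ} (e : X ⟶ CohB1.ProjSpaceOver n (Spec (CommRingCat.of A)))
  [IsClosedImmersion e]

/-- The coordinates of a closed subscheme of projective space. -/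
noncomputable def Atlas.ofEmb : Atlas X n where
  U c := PEmb.W e c ⊤
  affine c := PEmb.isAffineOpen_W e c (isAffineOpen_top _)
  cov := by rw [PEmb.iSup_W]; rfl
  t c j := PEmb.coordOn e c j _ (PEmb.W_le_Xo e c ⊤)
  self c := by rw [PEmb.coordOn, PEmb.coord_self, map_one]
  transition c l j V hc hl := by
    show X.presheaf.map _ _ = X.presheaf.map _ _ * X.presheaf.map _ _
    rw [PEmb.map_coordOn, PEmb.map_coordOn, PEmb.map_coordOn, ← PEmb.coordOn_transition]
  inf c l := PEmb.W_inf e l c ⊤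

theorem Atlas.ofEmb_generates {g : X ⟶ Spec (CommRingCat.of A)}
    (he : e ≫ CohB1.ProjSpaceOver.toBase n (Spec (CommRingCat.of A)) = g) :
    (Atlas.ofEmb e).Generates g := by
  intro c
  subst he
  refine top_le_iff.1 ((PEmb.W_generated e c (isAffineOpen_top _)).ge.trans (Subring.closure_le.2 ?_))
  rintro x (⟨r, rfl⟩ | ⟨j, rfl⟩)
  · refine Subring.subset_closure (Or.inl ⟨(Scheme.ΓSpecIso (CommRingCat.of A)).hom r, ?_⟩)
    show (PEmb.strMap e).appLE ⊤ _ _ ((Scheme.ΓSpecIso (CommRingCat.of A)).inv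
      ((Scheme.ΓSpecIso (CommRingCat.of A)).hom r)) = _
    rw [Iso.hom_inv_id_apply]
    rfl
  · exact Subring.subset_closure (Or.inr ⟨j, rfl⟩)

/-- Base change along a closed immersion preserves generation. -/
theorem Atlas.pb_generates {B : Type u} [CommRing B] [Algebra A B] {X' : Scheme.{u}} {π : X' ⟶ X}
    [IsClosedImmersion π] {g : X ⟶ Spec (CommRingCat.of A)} {g' : X' ⟶ Spec (CommRingCat.of B)}
    (w : π ≫ g = g' ≫ Spec.map (CommRingCat.ofHom (algebraMap A B))) {𝒰 : Atlas X n}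
    (h : 𝒰.Generates g) : (𝒰.pb π).Generates g' := by
  intro c
  refine top_le_iff.1 fun z _ => ?_
  obtain ⟨y, rfl⟩ := π.app_surjective (𝒰.U c) (𝒰.affine c) z
  have hy : y ∈ Subring.closure (Set.range (sec g (𝒰.U c)) ∪ Set.range (𝒰.t c)) := (h c).ge trivial
  induction hy using Subring.closure_induction with
  | mem x hx =>
    rcases hx with ⟨a, rfl⟩ | ⟨j, rfl⟩
    · refine Subring.subset_closure (Or.inl ⟨algebraMap A B a, ?_⟩)
      exact (sec_algebraMap w (𝒰.U c) (π ⁻¹ᵁ 𝒰.U c) le_rfl a).symm.trans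
        (by rw [Scheme.Hom.app_eq_appLE])
    · exact Subring.subset_closure (Or.inr ⟨j, rfl⟩)
  | zero => rw [map_zero]; exact zero_mem _
  | one => rw [map_one]; exact one_mem _
  | add x y _ _ hx hy => rw [map_add]; exact add_mem (hx trivial) (hy trivial)
  | neg x _ hx => rw [map_neg]; exact neg_mem (hx trivial)
  | mul x y _ _ hx hy => rw [map_mul]; exact mul_mem (hx trivial) (hy trivial)

end proj

end Groth.RedSub2.EtSection
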