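import Groth.Agent.SmoothSlice.Coords
import Groth.Agent.EtaleAlgebra.EtaleCoord
import Mathlib

/-!
# Cutting a smooth algebra by as many equations as its relative dimension

If `P` is standard smooth of relative dimension `d` over `R` and `d` functions vanishing at a point
detect all derivations at that point, then their common zero scheme is étale near the point.
-/

set_option autoImplicit false

universe u

open TensorProduct

namespace Groth.RedSub2.EtSection

theorem exists_etale_of_detect {R P : Type u} [CommRing R] [CommRing P] [Algebra R P] (d : ℕ)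
    [Algebra.IsStandardSmoothOfRelativeDimension d R P] (q : Ideal P) [q.IsPrime] (f : Fin d → P)
    (hf : ∀ i, f i ∈ q)
    (h : ∀ D : Derivation R P q.ResidueField, (∀ i, D (f i) = 0) → D = 0) :
    ∃ b ∉ q, Algebra.Etale R
      (Localization.Away b ⧸ Ideal.span (Set.range fun i => algebraMap P (Localization.Away b) (f i))) := by
  classical
  have : Nontrivial P := nontrivial_of_ne (1 : P) 0 fun h0 =>
    (Ideal.ne_top_iff_one q).1 ‹q.IsPrime›.ne_top (h0 ▸ q.zero_mem)
  have : Algebra.IsStandardSmooth R P :=
    Algebra.IsStandardSmoothOfRelativeDimension.isStandardSmooth d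
  have : Algebra.Smooth R P := inferInstance
  let L := Localization.AtPrime q
  letI : Algebra (MvPolynomial (Fin d) R) P := (MvPolynomial.aeval (R := R) f).toRingHom.toAlgebra
  have : IsScalarTower R (MvPolynomial (Fin d) R) P :=
    IsScalarTower.of_algebraMap_eq fun x => ((MvPolynomial.aeval (R := R) f).commutes x).symm
  have hX : ∀ i, algebraMap (MvPolynomial (Fin d) R) L (MvPolynomial.X i) = algebraMap P L (f i) := fun i => by
    rw [IsScalarTower.algebraMap_apply (MvPolynomial (Fin d) R) P L]
    exact congrArg _ (MvPolynomial.aeval_X f i)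
  -- the differentials of the equations generate
  have hspan : Submodule.span L (Set.range fun i : Fin d =>
      KaehlerDifferential.D R L (algebraMap P L (f i))) = ⊤ := by
    have h1 := Groth.SmoothSlice.span_D_eq_top (A := R) q (Set.range f) fun D hD =>
      h D fun i => hD _ ⟨i, rfl⟩
    rw [eq_top_iff, ← h1, Submodule.span_le]
    rintro _ ⟨⟨_, i, rfl⟩, rfl⟩
    exact Submodule.subset_span ⟨i, rfl⟩
  -- `Ω` is free of rank `d` at `q`
  have hrk : Module.rank P Ω[P⁄R] = d :=
    Algebra.IsStandardSmoothOfRelativeDimension.rank_kaehlerDifferential (R := R) (S := P) d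
  let bP := (Module.finBasisOfFinrankEq P Ω[P⁄R] (Module.finrank_eq_of_rank_eq hrk))
  have hbc : IsBaseChange L (KaehlerDifferential.map R R P L) :=
    IsLocalizedModule.isBaseChange q.primeCompl L _
  let bL : Module.Basis (Fin d) L Ω[L⁄R] := (bP.baseChange L).map hbc.equiv
  have hsurj : Function.Surjective (Fintype.linearCombination L
      (fun i : Fin d => KaehlerDifferential.D R L (algebraMap P L (f i)))) := by
    rw [← LinearMap.range_eq_top, Fintype.range_linearCombination, hspan]
  have hinj : Function.Injective (Fintype.linearCombination L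
      (fun i : Fin d => KaehlerDifferential.D R L (algebraMap P L (f i)))) := by
    have h2 := OrzechProperty.injective_of_surjective_endomorphism
      (bL.equivFun.toLinearMap ∘ₗ Fintype.linearCombination L
        (fun i : Fin d => KaehlerDifferential.D R L (algebraMap P L (f i))))
      (bL.equivFun.surjective.comp hsurj)
    intro a c hac
    apply h2
    rw [LinearMap.comp_apply, LinearMap.comp_apply, hac]
  have : Algebra.FormallySmooth R L :=
    haveI := Algebra.FormallySmooth.of_isLocalization (R := P) (Rₘ := L) q.primeCompl
    Algebra.FormallySmooth.comp R P L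
  have : Algebra.IsEtaleAt (MvPolynomial (Fin d) R) q := by
    show Algebra.FormallyEtale (MvPolynomial (Fin d) R) L
    rw [Groth.Agent.EtaleAlgebra.EtaleCoord.formallyEtale_iff_linearIndependent_span R L (Fin d),
      show (fun i : Fin d => KaehlerDifferential.D R L (algebraMap (MvPolynomial (Fin d) R) L
        (MvPolynomial.X i))) = fun i => KaehlerDifferential.D R L (algebraMap P L (f i)) from
          funext fun i => by rw [hX]]
    exact ⟨Fintype.linearIndependent_iff.2 fun g hg i => by
      have := hinj (a₁ := g) (a₂ := 0) (by rw [Fintype.linearCombination_apply, hg, map_zero])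
      exact congrFun this i, hspan⟩
  have : Algebra.FinitePresentation (MvPolynomial (Fin d) R) P :=
    Algebra.FinitePresentation.of_restrict_scalars_finitePresentation R _ _
  obtain ⟨b, hb, hE⟩ := Algebra.exists_etale_of_isEtaleAt (R := MvPolynomial (Fin d) R) q
  refine ⟨b, hb, ?_⟩
  -- base change along `X ↦ 0`
  let M := MvPolynomial (Fin d) R
  let J : Ideal M := Ideal.span (Set.range MvPolynomial.X)
  let Pb := Localization.Away b
  let T := Pb ⧸ Ideal.span (Set.range fun i => algebraMap P Pb (f i))
  have hJ : J.map (algebraMap M Pb) = Ideal.span (Set.range fun i => algebraMap P Pb (f i)) := by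
    rw [Ideal.map_span, ← Set.range_comp]
    congr 1
    refine congrArg Set.range (funext fun i => ?_)
    rw [Function.comp_apply, IsScalarTower.algebraMap_apply M P Pb]
    exact congrArg _ (MvPolynomial.aeval_X f i)
  have hbij : Function.Bijective (algebraMap R (M ⧸ J)) := by
    constructor
    · intro x y hxy
      have hle : J ≤ RingHom.ker (MvPolynomial.constantCoeff (σ := Fin d) (R := R)) := by
        rw [Ideal.span_le]
        rintro _ ⟨i, rfl⟩
        exact RingHom.mem_ker.2 (MvPolynomial.constantCoeff_X R i)
      rw [IsScalarTower.algebraMap_apply R M (M ⧸ J), IsScalarTower.algebraMap_apply R M (M ⧸ J),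
        Ideal.Quotient.algebraMap_eq, Ideal.Quotient.eq] at hxy
      have := hle hxy
      simpa [M, RingHom.mem_ker, sub_eq_zero, MvPolynomial.algebraMap_eq] using this
    · intro z
      obtain ⟨p, rfl⟩ := Ideal.Quotient.mk_surjective z
      refine ⟨MvPolynomial.constantCoeff p, ?_⟩
      rw [IsScalarTower.algebraMap_apply R M (M ⧸ J), Ideal.Quotient.algebraMap_eq, Ideal.Quotient.eq,
        MvPolynomial.algebraMap_eq]
      induction p using MvPolynomial.induction_on with
      | C a => simp
      | add p p' hp hp' =>
        simp only [map_add, add_sub_add_comm]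
        exact add_mem hp hp'
      | mul_X p i hp =>
        simp only [map_mul, MvPolynomial.constantCoeff_X, mul_zero, map_zero, zero_sub]
        exact neg_mem (J.mul_mem_left _ (Ideal.subset_span ⟨i, rfl⟩))
  have : Algebra.Etale R (M ⧸ J) :=
    Algebra.Etale.of_equiv (AlgEquiv.ofBijective (Algebra.ofId R (M ⧸ J)) hbij)
  let T' := Pb ⧸ J.map (algebraMap M Pb)
  have : Algebra.Etale (M ⧸ J) T' :=
    Algebra.Etale.of_equiv (R := M ⧸ J) (A := (M ⧸ J) ⊗[M] Pb)
      (Algebra.TensorProduct.quotIdealMapEquivQuotTensor Pb J).symm
  have : IsScalarTower R (M ⧸ J) T' := by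
    refine IsScalarTower.of_algebraMap_eq (R := R) (S := M ⧸ J) (A := T') fun x => ?_
    rw [IsScalarTower.algebraMap_apply R M (M ⧸ J), IsScalarTower.algebraMap_apply R M T']
    rfl
  have : Algebra.Etale R T' := Algebra.Etale.comp R (M ⧸ J) T'
  exact Algebra.Etale.of_equiv (Ideal.quotientEquivAlgOfEq R hJ)

/-- The same with the point given by a map to a field. -/
theorem exists_etale_of_detect_field {R P K : Type u} [CommRing R] [CommRing P] [Algebra R P] [Field K]
    [Algebra R K] [Algebra P K] [IsScalarTower R P K] (d : ℕ)
    [Algebra.IsStandardSmoothOfRelativeDimension d R P] (f : Fin d → P)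
    (hf : ∀ i, algebraMap P K (f i) = 0)
    (h : ∀ D : Derivation R P K, (∀ i, D (f i) = 0) → D = 0) :
    ∃ b : P, algebraMap P K b ≠ 0 ∧ Algebra.Etale R
      (Localization.Away b ⧸ Ideal.span (Set.range fun i => algebraMap P (Localization.Away b) (f i))) := by
  let q := RingHom.ker (algebraMap P K)
  have : q.IsPrime := RingHom.ker_isPrime _
  have hu : ∀ y : q.primeCompl, IsUnit (algebraMap P K y) := fun y =>
    isUnit_iff_ne_zero.2 fun hy => y.2 (RingHom.mem_ker.2 hy)
  let ι : q.ResidueField →ₐ[P] K :=
    IsFractionRing.liftAlgHom (R := P) (A := P ⧸ q)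
      (g := Ideal.Quotient.liftₐ q (Algebra.ofId P K) fun a ha => ha)
      (fun x y hxy => by
        obtain ⟨x, rfl⟩ := Ideal.Quotient.mk_surjective x
        obtain ⟨y, rfl⟩ := Ideal.Quotient.mk_surjective y
        rw [Ideal.Quotient.eq]
        show algebraMap P K (x - y) = 0
        rw [map_sub, sub_eq_zero]
        exact hxy)
  obtain ⟨b, hb, he⟩ := exists_etale_of_detect d q f (fun i => hf i) fun D hD => by
    have h2 := h ((ι.toLinearMap).compDer D) fun i => by
      show ι (D (f i)) = 0
      rw [hD i, map_zero]
    ext x
    have h3 := DFunLike.congr_fun h2 x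
    change ι (D x) = 0 at h3
    exact (map_eq_zero_iff ι ι.toRingHom.injective).1 h3
  exact ⟨b, fun h => hb (RingHom.mem_ker.2 h), he⟩

end Groth.RedSub2.EtSection
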