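import Mathlib

/-!
# Generic linear sections of an affine chart

`B` is a `k`-algebra generated by functions `t j` with `t c = 1`, all of whose tangent spaces have
dimension `d`. For algebraically independent coefficients, `d + 1` linear forms in the `t j` have no
common zero, and `d` of them cut out points with injective tangent map.
-/

set_option autoImplicit false

universe u

open Matrix

namespace Groth.RedSub2.EtSection

variable {k B : Type u} [Field k] [CommRing B] [Algebra k B] {n : ℕ}

/-- Derivations at a point. -/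
def IsTan {K : Type u} [Field K] [Algebra k K] (ψ : B →ₐ[k] K) (D : B →ₗ[k] K) : Prop :=
  ∀ x y : B, D (x * y) = ψ x * D y + ψ y * D x

/-- The tangent vectors at a point, in the coordinates `t`. -/
def Tan (t : Fin (n + 1) → B) {K : Type u} [Field K] [Algebra k K] (ψ : B →ₐ[k] K) :
    Submodule K (Fin (n + 1) → K) where
  carrier := {v | ∃ D : B →ₗ[k] K, IsTan ψ D ∧ ∀ j, D (t j) = v j}
  add_mem' := by
    rintro v w ⟨D, hD, hv⟩ ⟨D', hD', hw⟩
    refine ⟨D + D', fun x y => ?_, fun j => by simp [hv, hw]⟩
    simp [hD x y, hD' x y]; ring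
  zero_mem' := ⟨0, fun x y => by simp, fun j => by simp⟩
  smul_mem' := by
    rintro a v ⟨D, hD, hv⟩
    refine ⟨a • D, fun x y => ?_, fun j => by simp [hv]⟩
    simp [hD x y]; ring

/-- All tangent spaces have dimension `d`. -/
def TanDim (k : Type u) {B : Type u} [Field k] [CommRing B] [Algebra k B] (t : Fin (n + 1) → B)
    (d : ℕ) : Prop :=
  ∀ (K : Type u) [Field K] [Algebra k K] (ψ : B →ₐ[k] K), Module.finrank K (Tan t ψ) = d

theorem tan_apply_one {K : Type u} [Field K] [Algebra k K] {ψ : B →ₐ[k] K} {D : B →ₗ[k] K}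
    (hD : IsTan ψ D) : D 1 = 0 := by
  simpa using hD 1 1

theorem tan_c {t : Fin (n + 1) → B} {c : Fin (n + 1)} (hc : t c = 1) {K : Type u} [Field K] [Algebra k K]
    {ψ : B →ₐ[k] K} {v : Fin (n + 1) → K} (hv : v ∈ Tan t ψ) : v c = 0 := by
  obtain ⟨D, hD, h⟩ := hv
  rw [← h, hc, tan_apply_one hD]

theorem tan_map {t : Fin (n + 1) → B} {F K : Type u} [Field F] [Algebra k F] [Field K] [Algebra k K]
    (ι : F →ₐ[k] K) {ψ : B →ₐ[k] F} {v : Fin (n + 1) → F} (hv : v ∈ Tan t ψ) :
    (fun j => ι (v j)) ∈ Tan t (ι.comp ψ) := by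
  obtain ⟨D, hD, h⟩ := hv
  exact ⟨ι.toLinearMap ∘ₗ D, fun x y => by simp [hD x y], fun j => by simp [h]⟩

/-- A basis of the tangent space with a left inverse. -/
theorem exists_tan_frame {t : Fin (n + 1) → B} {d : ℕ} (hdim : TanDim k t d) {K : Type u} [Field K]
    [Algebra k K] (ψ : B →ₐ[k] K) :
    ∃ (w : Fin d → Fin (n + 1) → K) (C : Fin (n + 1) → Fin d → K),
      (∀ l, w l ∈ Tan t ψ) ∧ (∀ l i, ∑ j, C j i * w l j = if i = l then 1 else 0) ∧
      (∀ v ∈ Tan t ψ, (∀ i, ∑ j, C j i * v j = 0) → v = 0) := by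
  classical
  let b := Module.finBasisOfFinrankEq K (Tan t ψ) (hdim K ψ)
  let ι : (Fin d → K) →ₗ[K] (Fin (n + 1) → K) :=
    (Tan t ψ).subtype ∘ₗ b.equivFun.symm.toLinearMap
  obtain ⟨g, hg⟩ := ι.exists_leftInverse_of_injective
    (LinearMap.ker_eq_bot.2 ((Tan t ψ).injective_subtype.comp b.equivFun.symm.injective))
  have hgs : ∀ v i, ∑ j, g (Pi.single j 1) i * v j = g v i := by
    intro v i
    conv_rhs => rw [← Finset.univ_sum_single v]
    rw [map_sum, Finset.sum_apply]
    refine Finset.sum_congr rfl fun j _ => ?_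
    rw [show (Pi.single j (v j) : Fin (n + 1) → K) = v j • Pi.single j 1 by
      rw [← Pi.single_smul]; simp, map_smul, Pi.smul_apply, smul_eq_mul, mul_comm]
  refine ⟨fun l => ι (Pi.single l 1), fun j i => g (Pi.single j 1) i, fun l => Submodule.coe_mem _,
    fun l i => ?_, fun v hv h => ?_⟩
  · rw [hgs, ← LinearMap.comp_apply, hg, LinearMap.id_apply, Pi.single_apply]
  · have hv' : v = ι (b.equivFun ⟨v, hv⟩) := by simp [ι]
    have : g v = 0 := funext fun i => by rw [← hgs, h i, Pi.zero_apply]
    rw [hv', ← LinearMap.comp_apply, hg, LinearMap.id_apply] at this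
    rw [hv', this, map_zero]

/-- At most `d` of the coordinates detect the tangent space. -/
theorem exists_tan_coords {t : Fin (n + 1) → B} {d : ℕ} (hdim : TanDim k t d) {K : Type u} [Field K]
    [Algebra k K] (ψ : B →ₐ[k] K) :
    ∃ J : Finset (Fin (n + 1)), J.card ≤ d ∧ ∀ v ∈ Tan t ψ, (∀ j ∈ J, v j = 0) → v = 0 := by
  classical
  let φ : Fin (n + 1) → Module.Dual K (Tan t ψ) := fun j =>
    (LinearMap.proj j) ∘ₗ (Tan t ψ).subtype
  obtain ⟨s, hs, hspan, hli⟩ := exists_linearIndependent K (Set.range φ)
  choose f hf using fun x : s => hs x.2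
  haveI : Fintype s := (Set.finite_range φ |>.subset hs).fintype
  refine ⟨Finset.univ.image f, ?_, fun v hv h => ?_⟩
  · refine Finset.card_image_le.trans ?_
    rw [Finset.card_univ]
    refine hli.fintype_card_le_finrank.trans ?_
    rw [Subspace.dual_finrank_eq, hdim K ψ]
  · have h0 : ∀ φ' ∈ Submodule.span K s, φ' ⟨v, hv⟩ = 0 := by
      intro φ' hφ'
      induction hφ' using Submodule.span_induction with
      | mem x hx =>
        have := h _ (Finset.mem_image.2 ⟨⟨x, hx⟩, Finset.mem_univ _, rfl⟩)
        have e := hf ⟨x, hx⟩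
        rw [show x = φ (f ⟨x, hx⟩) from e.symm]
        exact this
      | zero => simp
      | add x y _ _ hx hy => simp [hx, hy]
      | smul a x _ hx => simp [hx]
    funext j
    exact h0 (φ j) (hspan ▸ Submodule.subset_span ⟨j, rfl⟩)

/-! ### Algebraic closure of finite sets -/

section Cl

variable {K : Type u} [Field K] [Algebra k K]

/-- The relative algebraic closure of `k(G)`. -/
noncomputable def Cl (k : Type u) {K : Type u} [Field k] [Field K] [Algebra k K] (G : Set K) :
    IntermediateField k K :=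
  (algebraicClosure (IntermediateField.adjoin k G) K).restrictScalars k

theorem subset_Cl {G : Set K} {x : K} (hx : x ∈ G) : x ∈ Cl k G :=
  mem_algebraicClosure_iff.2 (isAlgebraic_algebraMap
    (⟨x, IntermediateField.subset_adjoin k G hx⟩ : IntermediateField.adjoin k G))

theorem mem_Cl_of_isAlgebraic {G : Set K} {L : Type*} [CommRing L] [Algebra L K] [FaithfulSMul L K] {x : K}
    (hL : ∀ l : L, algebraMap L K l ∈ Cl k G) (hx : IsAlgebraic L x) : x ∈ Cl k G := by
  let E := IntermediateField.adjoin k G
  let C := algebraicClosure E K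
  obtain ⟨p, hp, hpx⟩ := hx
  let f : L →+* C := (algebraMap L K).codRestrict C.toSubfield.toSubring hL
  have hp' : p.map (algebraMap L K) ≠ 0 → p.map f ≠ 0 := fun h h' => h (by
    rw [show algebraMap L K = (C.val.toRingHom).comp f from RingHom.ext fun l => rfl,
      ← Polynomial.map_map, h', Polynomial.map_zero])
  by_cases h0 : p.map (algebraMap L K) = 0
  · exfalso
    exact hp ((Polynomial.map_eq_zero_iff (FaithfulSMul.algebraMap_injective L K)).1 h0)
  have halg : IsAlgebraic C x := ⟨p.map f, hp' h0, by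
    rw [Polynomial.aeval_def, Polynomial.eval₂_map]
    exact hpx⟩
  exact mem_algebraicClosure_iff.2 (halg.restrictScalars E)

/-- An algebraically independent family inside the algebraic closure of `G` is no bigger than `G`. -/
theorem card_le_of_mem_Cl {ι : Type} [Fintype ι] {a : ι → K} (ha : AlgebraicIndependent k a)
    {G : Finset K} (h : ∀ i, a i ∈ Cl k (G : Set K)) : Fintype.card ι ≤ G.card := by
  classical
  have hI : (AlgebraicIndependent.matroid k K).Indep (Set.range a) :=
    AlgebraicIndependent.matroid_indep_iff.2 ha.to_subtype_range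
  have hsub : Set.range a ⊆ (AlgebraicIndependent.matroid k K).closure (G : Set K) := by
    rintro _ ⟨i, rfl⟩
    rw [AlgebraicIndependent.matroid_closure_eq, SetLike.mem_coe, Subalgebra.mem_algebraicClosure]
    exact IntermediateField.isAlgebraic_adjoin_iff.1 (mem_algebraicClosure_iff.1 (h i))
  have h1 := hI.encard_le_eRk_of_subset hsub
  rw [Matroid.eRk_closure_eq] at h1
  have h2 := h1.trans (Matroid.eRk_le_encard _ _)
  rw [Set.encard_coe_eq_coe_finsetCard, ← Set.image_univ,
    ha.injective.injOn.encard_image, Set.encard_univ, ENat.card_eq_coe_fintype_card] at h2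
  exact_mod_cast h2

/-- A nonzero polynomial relation makes one member algebraic over the others. -/
theorem exists_mem_of_not_independent {F : Type u} [Field F] [Algebra F K] {ι : Type} [Fintype ι] [DecidableEq ι]
    {x : ι → K} (h : ¬ AlgebraicIndependent F x) :
    ∃ i, IsAlgebraic (Algebra.adjoin F (x '' {i}ᶜ)) (x i) := by
  by_contra hall
  push Not at hall
  refine h ?_
  have key : ∀ s : Finset ι, AlgebraicIndepOn F x (s : Set ι) := by
    intro s
    induction s using Finset.induction with
    | empty => simp [AlgebraicIndepOn, algebraicIndependent_empty_type_iff, (algebraMap F K).injective]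
    | insert i s hi ih =>
      rw [Finset.coe_insert]
      refine (AlgebraicIndepOn.insert_iff (by exact_mod_cast hi)).2 ⟨ih, fun halg => hall i ?_⟩
      refine halg.tower_top_of_subalgebra_le (Algebra.adjoin_mono (Set.image_mono ?_))
      intro j hj hji
      exact hi (by rw [← show j = i from hji]; exact_mod_cast hj)
  have := key Finset.univ
  rw [Finset.coe_univ] at this
  exact (algebraicIndependent_equiv (f := x) (Equiv.Set.univ ι)).1 this

end Cl

/-- The coordinates of a point are algebraic over at most `d` of them. -/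
theorem exists_small_basis {t : Fin (n + 1) → B} (hgen : Algebra.adjoin k (Set.range t) = ⊤) {d : ℕ}
    (hdim : TanDim k t d) {K : Type u} [Field K] [Algebra k K] (ψ : B →ₐ[k] K) :
    ∃ G : Finset K, G.card ≤ d ∧ ∀ j, ψ (t j) ∈ Cl k (G : Set K) := by
  classical
  let F := IntermediateField.adjoin k (Set.range fun j => ψ (t j))
  have hmem : ∀ b : B, ψ b ∈ F := by
    intro b
    have hb : b ∈ Algebra.adjoin k (Set.range t) := hgen ▸ Algebra.mem_top
    induction hb using Algebra.adjoin_induction with
    | mem x hx => obtain ⟨j, rfl⟩ := hx; exact IntermediateField.subset_adjoin _ _ ⟨j, rfl⟩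
    | algebraMap r => rw [AlgHom.commutes]; exact F.algebraMap_mem r
    | add x y _ _ hx hy => rw [map_add]; exact F.add_mem hx hy
    | mul x y _ _ hx hy => rw [map_mul]; exact F.mul_mem hx hy
  let ψF : B →ₐ[k] F := ψ.codRestrict F.toSubalgebra hmem
  obtain ⟨J, hJd, hJ⟩ := exists_tan_coords hdim ψF
  refine ⟨J.image fun j => ψ (t j), Finset.card_image_le.trans hJd, fun j => ?_⟩
  let E := IntermediateField.adjoin k ((J.image fun j => ψF (t j)) : Set F)
  -- `F` is unramified, hence algebraic, over `E`
  have : Algebra.EssFiniteType k F :=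
    IntermediateField.essFiniteType_iff.2 (IntermediateField.fg_adjoin_of_finite (Set.finite_range _))
  have : Algebra.EssFiniteType E F := Algebra.EssFiniteType.of_comp k E F
  have : Algebra.FormallyUnramified E F := by
    constructor
    rw [← Module.subsingleton_dual_iff F]
    refine ⟨fun φ φ' => ?_⟩
    suffices H : ∀ φ : Module.Dual F Ω[F⁄E], φ = 0 by rw [H φ, H φ']
    intro φ
    let D : Derivation E F F := φ.compDer (KaehlerDifferential.D E F)
    have hv : (fun i => D (ψF (t i))) = 0 := by
      refine hJ _ ⟨(D.toLinearMap.restrictScalars k) ∘ₗ ψF.toLinearMap, fun x y => ?_, fun i => rfl⟩ ?_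
      · simp [D.leibniz]
      · intro i hi
        have hiE : ψF (t i) ∈ E :=
          IntermediateField.subset_adjoin _ _ (Finset.mem_coe.2 (Finset.mem_image_of_mem _ hi))
        exact D.map_algebraMap ⟨_, hiE⟩
    have hD : D = 0 := by
      refine Derivation.ext fun y => ?_
      obtain ⟨x, hx⟩ := y
      rw [Derivation.zero_apply]
      induction hx using IntermediateField.adjoin_induction with
      | mem x hx =>
        obtain ⟨i, rfl⟩ := hx
        exact congrFun hv i
      | algebraMap r =>
        show D (algebraMap k F r) = 0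
        rw [IsScalarTower.algebraMap_apply k E F, D.map_algebraMap]
      | add x y hx hy ihx ihy =>
        show D (⟨x, hx⟩ + ⟨y, hy⟩ : F) = 0
        rw [map_add, ihx, ihy]; simp
      | inv x hx ih =>
        show D ((⟨x, hx⟩ : F)⁻¹) = 0
        rw [D.leibniz_inv, ih]; simp
      | mul x y hx hy ihx ihy =>
        show D (⟨x, hx⟩ * ⟨y, hy⟩ : F) = 0
        rw [D.leibniz, ihx, ihy]; simp
    refine (KaehlerDifferential.linearMapEquivDerivation E F).injective ?_
    rw [map_zero]
    exact hD
  have : Algebra.IsSeparable E F := Algebra.FormallyUnramified.isSeparable E F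
  have halg : IsAlgebraic E (ψF (t j)) := Algebra.IsAlgebraic.isAlgebraic _
  refine mem_Cl_of_isAlgebraic (L := E) (fun l => ?_) (halg.algebraMap (A := K))
  have hle : E.map F.val ≤ Cl k ((J.image fun j => ψ (t j) : Finset K) : Set K) := by
    rw [IntermediateField.adjoin_map, IntermediateField.adjoin_le_iff]
    rintro _ ⟨y, hy, rfl⟩
    obtain ⟨i, hi, rfl⟩ := Finset.mem_image.1 (Finset.mem_coe.1 hy)
    exact subset_Cl (Finset.mem_coe.2 (Finset.mem_image.2 ⟨i, hi, rfl⟩))
  exact hle ⟨l.1, l.2, rfl⟩

/-! ### The generic statements -/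

variable {d : ℕ}

theorem generic_empty {t : Fin (n + 1) → B} {c : Fin (n + 1)} (hc : t c = 1)
    (hgen : Algebra.adjoin k (Set.range t) = ⊤) (hdim : TanDim k t d)
    {K : Type u} [Field K] [Algebra k K] (a : Fin (d + 1) → Fin (n + 1) → K)
    (ha : AlgebraicIndependent k fun p : Fin (d + 1) × Fin (n + 1) => a p.1 p.2) (ψ : B →ₐ[k] K) :
    ¬ ∀ i, ∑ j, a i j * ψ (t j) = 0 := by
  classical
  intro h
  obtain ⟨G₀, hG₀, hG⟩ := exists_small_basis hgen hdim ψ
  let O : Finset (Fin (d + 1) × Fin (n + 1)) := Finset.univ.filter fun p => p.2 ≠ c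
  let G : Finset K := G₀ ∪ O.image fun p => a p.1 p.2
  have hGG : Cl k (G₀ : Set K) ≤ Cl k (G : Set K) := by
    intro x hx
    refine mem_Cl_of_isAlgebraic (L := IntermediateField.adjoin k (G₀ : Set K)) (fun l => ?_)
      (mem_algebraicClosure_iff.1 hx)
    exact IntermediateField.adjoin_le_iff.2 (fun y hy => subset_Cl (Finset.mem_coe.2
      (Finset.mem_union_left _ (Finset.mem_coe.1 hy)))) l.2
  have ht : ∀ j, ψ (t j) ∈ Cl k (G : Set K) := fun j => hGG (hG j)
  have hne : ∀ i j, j ≠ c → a i j ∈ Cl k (G : Set K) := fun i j hj =>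
    subset_Cl (Finset.mem_coe.2 (Finset.mem_union_right _
      (Finset.mem_image.2 ⟨(i, j), by simp [O, hj], rfl⟩)))
  have hmem : ∀ p : Fin (d + 1) × Fin (n + 1), a p.1 p.2 ∈ Cl k (G : Set K) := by
    rintro ⟨i, j⟩
    rcases eq_or_ne j c with rfl | hj
    · have h1 := h i
      rw [← Finset.add_sum_erase _ _ (Finset.mem_univ j), hc, map_one, mul_one,
        add_eq_zero_iff_eq_neg] at h1
      rw [show a i j = _ from h1]
      exact neg_mem (sum_mem fun l hl => mul_mem (hne i l (Finset.ne_of_mem_erase hl)) (ht l))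
    · exact hne i j hj
  have h1 := card_le_of_mem_Cl ha hmem
  have h2 : G.card ≤ d + O.card :=
    (Finset.card_union_le _ _).trans (Nat.add_le_add hG₀ Finset.card_image_le)
  have h3 : O.card + (d + 1) = Fintype.card (Fin (d + 1) × Fin (n + 1)) := by
    rw [← Finset.card_univ, ← Finset.card_filter_add_card_filter_not (s := Finset.univ) (fun p : Fin (d + 1) × Fin (n + 1) => p.2 ≠ c)]
    congr 1
    rw [show (Finset.univ.filter fun p : Fin (d + 1) × Fin (n + 1) => ¬ p.2 ≠ c) =
      Finset.univ.image (fun i => (i, c)) by ext ⟨x, y⟩; simp [eq_comm],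
      Finset.card_image_of_injective _ (fun x y e => (Prod.mk.inj e).1), Finset.card_fin]
  omega

theorem generic_tangent {t : Fin (n + 1) → B} {c : Fin (n + 1)} (hc : t c = 1)
    (hgen : Algebra.adjoin k (Set.range t) = ⊤) (hdim : TanDim k t d)
    {K : Type u} [Field K] [Algebra k K] (a : Fin (d + 1) → Fin (n + 1) → K)
    (ha : AlgebraicIndependent k fun p : Fin (d + 1) × Fin (n + 1) => a p.1 p.2) (ψ : B →ₐ[k] K)
    (h : ∀ i : Fin d, ∑ j, a i.succ j * ψ (t j) = 0)
    (v : Fin (n + 1) → K) (hv : v ∈ Tan t ψ) (hv0 : ∀ i : Fin d, ∑ j, a i.succ j * v j = 0) : v = 0 := by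
  classical
  let F := IntermediateField.adjoin k (Set.range fun j => ψ (t j))
  have hmem : ∀ b : B, ψ b ∈ F := by
    intro b
    have hb : b ∈ Algebra.adjoin k (Set.range t) := hgen ▸ Algebra.mem_top
    induction hb using Algebra.adjoin_induction with
    | mem x hx => obtain ⟨j, rfl⟩ := hx; exact IntermediateField.subset_adjoin _ _ ⟨j, rfl⟩
    | algebraMap r => rw [AlgHom.commutes]; exact F.algebraMap_mem r
    | add x y _ _ hx hy => rw [map_add]; exact F.add_mem hx hy
    | mul x y _ _ hx hy => rw [map_mul]; exact F.mul_mem hx hy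
  let ψF : B →ₐ[k] F := ψ.codRestrict F.toSubalgebra hmem
  obtain ⟨w, C, hw, hwC, -⟩ := exists_tan_frame hdim ψF
  -- the coefficients not fixed by the equations
  let O := {p : Fin (d + 1) × Fin (n + 1) // ∀ i : Fin d, p ≠ (i.succ, c)}
  let x : O → K := fun p => a p.1.1 p.1.2
  have hindep : AlgebraicIndependent F x := by
    by_contra hnot
    obtain ⟨p₀, hp₀⟩ := exists_mem_of_not_independent hnot
    obtain ⟨G₀, hG₀, hG⟩ := exists_small_basis hgen hdim ψ
    let G : Finset K := G₀ ∪ (Finset.univ.erase p₀).image x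
    have hGG : ∀ j, ψ (t j) ∈ Cl k (G : Set K) := fun j => by
      refine mem_Cl_of_isAlgebraic (L := IntermediateField.adjoin k (G₀ : Set K)) (fun l => ?_)
        (mem_algebraicClosure_iff.1 (hG j))
      exact IntermediateField.adjoin_le_iff.2 (fun y hy => subset_Cl (Finset.mem_coe.2
        (Finset.mem_union_left _ (Finset.mem_coe.1 hy)))) l.2
    have hx : ∀ p, p ≠ p₀ → x p ∈ Cl k (G : Set K) := fun p hp =>
      subset_Cl (Finset.mem_coe.2 (Finset.mem_union_right _
        (Finset.mem_image.2 ⟨p, Finset.mem_erase.2 ⟨hp, Finset.mem_univ _⟩, rfl⟩)))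
    have hFle : F ≤ Cl k (G : Set K) := IntermediateField.adjoin_le_iff.2 (by
      rintro _ ⟨j, rfl⟩; exact hGG j)
    have hx₀ : x p₀ ∈ Cl k (G : Set K) := by
      refine mem_Cl_of_isAlgebraic (L := Algebra.adjoin F (x '' {p₀}ᶜ)) ?_ hp₀
      rintro ⟨l, hl⟩
      induction hl using Algebra.adjoin_induction with
      | mem y hy => obtain ⟨p, hp, rfl⟩ := hy; exact hx p hp
      | algebraMap r => exact hFle r.2
      | add y z _ _ hy hz => exact add_mem hy hz
      | mul y z _ _ hy hz => exact mul_mem hy hz
    have hxall : ∀ p, x p ∈ Cl k (G : Set K) := fun p => by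
      rcases eq_or_ne p p₀ with rfl | hp
      · exact hx₀
      · exact hx p hp
    have hall : ∀ p : Fin (d + 1) × Fin (n + 1), a p.1 p.2 ∈ Cl k (G : Set K) := by
      intro p
      by_cases hp : ∀ i : Fin d, p ≠ (i.succ, c)
      · exact hxall ⟨p, hp⟩
      · push Not at hp
        obtain ⟨i, rfl⟩ := hp
        have h1 := h i
        rw [← Finset.add_sum_erase _ _ (Finset.mem_univ c), hc, map_one, mul_one,
          add_eq_zero_iff_eq_neg] at h1
        show a i.succ c ∈ _
        rw [h1]
        exact neg_mem (sum_mem fun l hl => mul_mem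
          (hxall ⟨(i.succ, l), fun i' e => Finset.ne_of_mem_erase hl (Prod.mk.inj e).2⟩) (hGG l))
    have h1 := card_le_of_mem_Cl ha hall
    have h2 : G.card ≤ d + (Fintype.card O - 1) := by
      refine (Finset.card_union_le _ _).trans (Nat.add_le_add hG₀ (Finset.card_image_le.trans ?_))
      rw [Finset.card_erase_of_mem (Finset.mem_univ _), Finset.card_univ]
    have h3 : Fintype.card O + d = Fintype.card (Fin (d + 1) × Fin (n + 1)) := by
      rw [Fintype.card_subtype, ← Finset.card_univ (α := Fin (d + 1) × Fin (n + 1)),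
        ← Finset.card_filter_add_card_filter_not (s := Finset.univ)
          (fun p : Fin (d + 1) × Fin (n + 1) => ∀ i : Fin d, p ≠ (i.succ, c))]
      congr 1
      rw [show (Finset.univ.filter fun p : Fin (d + 1) × Fin (n + 1) => ¬ ∀ i : Fin d, p ≠ (i.succ, c)) =
        Finset.univ.image (fun i : Fin d => (i.succ, c)) by ext p; simp [eq_comm],
        Finset.card_image_of_injective _ (fun x y e => Fin.succ_injective _ (Prod.mk.inj e).1),
        Finset.card_fin]
    have h4 : 0 < Fintype.card O := Fintype.card_pos_iff.2 ⟨p₀⟩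
    omega
  -- the matrix of the linear forms on the tangent space is generically invertible
  let entry : Fin d → Fin (n + 1) → MvPolynomial O F := fun i j =>
    if hj : j = c then 0 else MvPolynomial.X ⟨(i.succ, j), fun i' e => hj (Prod.mk.inj e).2⟩
  let M : Matrix (Fin d) (Fin d) (MvPolynomial O F) :=
    fun i l => ∑ j, entry i j * MvPolynomial.C (w l j)
  have hdet : M.det ≠ 0 := by
    intro h0
    let σ : O → F := fun p => if h : p.1.1 = 0 then 0 else C p.1.2 (p.1.1.pred h)
    have h2 := congrArg (MvPolynomial.eval σ) h0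
    rw [RingHom.map_det, map_zero] at h2
    have h3 : (MvPolynomial.eval σ).mapMatrix M = 1 := by
      refine Matrix.ext fun i l => ?_
      rw [RingHom.mapMatrix_apply, Matrix.map_apply, Matrix.one_apply, ← hwC l i]
      show MvPolynomial.eval σ (∑ j, entry i j * MvPolynomial.C (w l j)) = _
      rw [map_sum]
      refine Finset.sum_congr rfl fun j _ => ?_
      rw [map_mul, MvPolynomial.eval_C]
      by_cases hj : j = c
      · subst hj
        rw [tan_c hc (hw l)]
        simp
      · congr 1
        simp [entry, hj, σ, Fin.succ_ne_zero]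
    rw [h3, Matrix.det_one] at h2
    exact one_ne_zero h2
  have hdetK : (MvPolynomial.aeval x) M.det ≠ 0 := fun h0 =>
    hdet (hindep.eq_zero_of_aeval_eq_zero _ h0)
  -- the linear forms restricted to the tangent space
  let Φ : Tan t ψ →ₗ[K] (Fin d → K) :=
    { toFun := fun u i => ∑ j, a i.succ j * u.1 j
      map_add' := fun u u' => by ext i; simp [mul_add, Finset.sum_add_distrib]
      map_smul' := fun r u => by
        ext i
        simp only [SetLike.val_smul, Pi.smul_apply, smul_eq_mul, RingHom.id_apply, Finset.mul_sum]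
        exact Finset.sum_congr rfl fun _ _ => by ring }
  let w' : Fin d → Tan t ψ := fun l => ⟨fun j => (w l j : K), tan_map F.val (hw l)⟩
  have hMK : (Matrix.of fun i l => Φ (w' l) i) = (MvPolynomial.aeval x).toRingHom.mapMatrix M := by
    ext i l
    rw [Matrix.of_apply, RingHom.mapMatrix_apply, Matrix.map_apply]
    show ∑ j, a i.succ j * (w l j : K) =
      (MvPolynomial.aeval x) (∑ j, entry i j * MvPolynomial.C (w l j))
    rw [map_sum]
    refine Finset.sum_congr rfl fun j _ => ?_
    rw [map_mul, MvPolynomial.aeval_C]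
    by_cases hj : j = c
    · subst hj
      rw [tan_c hc (hw l)]
      simp
    · simp [entry, hj, x]
  have hsurj : Function.Surjective Φ := by
    intro y
    have hu : IsUnit (Matrix.of fun i l => Φ (w' l) i) := by
      rw [Matrix.isUnit_iff_isUnit_det, hMK, ← RingHom.map_det]
      exact isUnit_iff_ne_zero.2 hdetK
    obtain ⟨z, hz⟩ := (Matrix.mulVec_surjective_iff_isUnit.2 hu) y
    refine ⟨∑ l, z l • w' l, ?_⟩
    rw [← hz, map_sum]
    ext i
    simp [Matrix.mulVec, dotProduct, mul_comm]
  have hinj : Function.Injective Φ := by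
    refine (LinearMap.injective_iff_surjective_of_finrank_eq_finrank ?_).2 hsurj
    rw [hdim K ψ, Module.finrank_fin_fun]
  have h1 := hinj (a₁ := ⟨v, hv⟩) (a₂ := 0) (by rw [map_zero]; funext i; exact hv0 i)
  exact congrArg Subtype.val h1

/-- At every point, suitable coefficients give a zero with injective tangent map. -/
theorem exists_special {t : Fin (n + 1) → B} {c : Fin (n + 1)} (hc : t c = 1) (hdim : TanDim k t d)
    {K : Type u} [Field K] [Algebra k K] (ψ : B →ₐ[k] K) :
    ∃ a : Fin (d + 1) → Fin (n + 1) → K, (∀ i : Fin d, ∑ j, a i.succ j * ψ (t j) = 0) ∧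
      ∀ v ∈ Tan t ψ, (∀ i : Fin d, ∑ j, a i.succ j * v j = 0) → v = 0 := by
  classical
  obtain ⟨w, C, -, -, hC⟩ := exists_tan_frame hdim ψ
  let a : Fin d → Fin (n + 1) → K := fun i j =>
    if j = c then -∑ l ∈ Finset.univ.erase c, C l i * ψ (t l) else C j i
  refine ⟨Fin.cons 0 a, fun i => ?_, fun v hv h => hC v hv fun i => ?_⟩
  · simp only [Fin.cons_succ]
    rw [← Finset.add_sum_erase _ _ (Finset.mem_univ c), hc, map_one, mul_one]
    have : ∀ l ∈ Finset.univ.erase c, a i l * ψ (t l) = C l i * ψ (t l) := fun l hl => by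
      simp [a, Finset.ne_of_mem_erase hl]
    rw [Finset.sum_congr rfl this]
    simp [a]
  · have h1 := h i
    simp only [Fin.cons_succ] at h1
    rw [← h1]
    refine Finset.sum_congr rfl fun j _ => ?_
    by_cases hj : j = c
    · subst hj
      simp [tan_c hc hv]
    · simp [a, hj]

end Groth.RedSub2.EtSection
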