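import Groth.Agent.RedSub2.EtSection.Criterion
import Mathlib

/-!
# Étale points of the zero scheme of functions on a smooth algebra
-/

set_option autoImplicit false

universe u

namespace Groth.RedSub2.EtSection

/-- A point of the zero scheme of `d` functions on an algebra smooth of relative dimension `d` is an
étale point if the functions detect all derivations there. -/
theorem mem_etaleLocus_of_detect {B P : Type u} [CommRing B] [CommRing P] [Algebra B P]
    [Algebra.FinitePresentation B P] {d : ℕ}
    (f : Fin d → P) (hloc : RingHom.Locally (RingHom.IsStandardSmoothOfRelativeDimension d) (algebraMap B P))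
    (Q : PrimeSpectrum (P ⧸ Ideal.span (Set.range f))) (hQ : Q.asIdeal.IsMaximal)
    (h : ∀ D : Derivation B P (P ⧸ Q.asIdeal.comap (Ideal.Quotient.mk (Ideal.span (Set.range f)))),
      (∀ i, D (f i) = 0) → D = 0) :
    Q ∈ Algebra.etaleLocus B (P ⧸ Ideal.span (Set.range f)) := by
  haveI := hQ
  let I := Ideal.span (Set.range f)
  let q : Ideal P := Q.asIdeal.comap (Ideal.Quotient.mk I)
  haveI hq : q.IsMaximal := Ideal.comap_isMaximal_of_surjective _ Ideal.Quotient.mk_surjective
  obtain ⟨t, htop, ht⟩ := hloc
  obtain ⟨g₀, hg₀t, hg₀⟩ : ∃ g₀ ∈ t, g₀ ∉ q := by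
    by_contra hall
    push Not at hall
    exact hq.ne_top (top_le_iff.1 (htop.ge.trans (Ideal.span_le.2 fun y hy => hall y hy)))
  let Pg := Localization.Away g₀
  haveI : Algebra.IsStandardSmoothOfRelativeDimension d B Pg := by
    have h1 := ht g₀ hg₀t
    exact (RingHom.isStandardSmoothOfRelativeDimension_algebraMap d).1
      (by rw [IsScalarTower.algebraMap_eq B P Pg]; exact h1)
  let K := P ⧸ q
  letI : Field K := Ideal.Quotient.field q
  have hχf : ∀ i, algebraMap P K (f i) = 0 := fun i => Ideal.Quotient.eq_zero_iff_mem.2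
    (show Ideal.Quotient.mk I (f i) ∈ Q.asIdeal by
      rw [Ideal.Quotient.eq_zero_iff_mem.2 (Ideal.subset_span (show f i ∈ Set.range f from ⟨i, rfl⟩))]
      exact zero_mem _)
  have hχg : IsUnit (algebraMap P K g₀) :=
    isUnit_iff_ne_zero.2 fun h => hg₀ (Ideal.Quotient.eq_zero_iff_mem.1 h)
  let χg : Pg →+* K := IsLocalization.Away.lift g₀ hχg
  letI : Algebra Pg K := χg.toAlgebra
  haveI : IsScalarTower P Pg K :=
    IsScalarTower.of_algebraMap_eq fun z => (IsLocalization.Away.lift_eq _ hχg z).symm
  haveI : IsScalarTower B Pg K := IsScalarTower.of_algebraMap_eq fun r => by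
    rw [IsScalarTower.algebraMap_apply B P Pg, ← IsScalarTower.algebraMap_apply P Pg K,
      ← IsScalarTower.algebraMap_apply B P K]
  obtain ⟨e, he, hE⟩ := exists_etale_of_detect_field (R := B) (P := Pg) (K := K) d
    (fun i => algebraMap P Pg (f i))
    (fun i => by rw [← IsScalarTower.algebraMap_apply]; exact hχf i) (fun D hD => by
      have h1 := h (D.compAlgebraMap P) fun i => hD i
      have hDz : ∀ z, D (algebraMap P Pg z) = 0 := fun z => DFunLike.congr_fun h1 z
      refine Derivation.ext fun y => ?_
      obtain ⟨⟨z, u⟩, hzu⟩ := IsLocalization.surj (Submonoid.powers g₀) y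
      have h1 := congrArg D hzu
      simp only at h1
      rw [Derivation.leibniz, hDz, hDz, smul_zero, zero_add] at h1
      obtain ⟨v, hv⟩ := IsLocalization.map_units Pg u
      rw [← hv, ← Units.smul_def, smul_eq_zero_iff_eq] at h1
      exact h1)
  -- transfer to a basic open of the zero scheme
  obtain ⟨⟨z, u⟩, hzu⟩ := IsLocalization.surj (Submonoid.powers g₀) e
  simp only at hzu
  obtain ⟨v, hv⟩ := IsLocalization.map_units Pg u
  let Sh := Localization.Away e
  haveI : IsLocalization.Away (algebraMap P Pg z) Sh :=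
    IsLocalization.Away.of_associated (r := e) ⟨v, by rw [hv, hzu]⟩
  haveI : IsLocalization.Away (g₀ * z) Sh := IsLocalization.Away.mul' Pg Sh g₀ z
  let T := Sh ⧸ I.map (algebraMap P Sh)
  let c0 : P ⧸ I := Ideal.Quotient.mk I (g₀ * z)
  haveI : IsLocalization.Away c0 T := by
    have h1 : IsLocalization (Algebra.algebraMapSubmonoid (P ⧸ I) (Submonoid.powers (g₀ * z))) T :=
      inferInstance
    rwa [Algebra.algebraMapSubmonoid, Submonoid.map_powers] at h1
  haveI hET : Algebra.Etale B T := by
    have heq : Ideal.span (Set.range fun i => algebraMap Pg Sh (algebraMap P Pg (f i))) =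
        I.map (algebraMap P Sh) := by
      rw [show I = Ideal.span (Set.range f) from rfl, Ideal.map_span, ← Set.range_comp]
      exact congrArg Ideal.span (congrArg Set.range (funext fun i =>
        (IsScalarTower.algebraMap_apply P Pg Sh (f i)).symm))
    exact @Algebra.Etale.of_equiv B _ _ _ _ _ _ _ hE (Ideal.quotientEquivAlgOfEq B heq)
  let toC : P ⧸ I →ₐ[B] T :=
    { algebraMap (P ⧸ I) T with
      commutes' := fun r => by
        show Ideal.Quotient.mk _ (algebraMap P Sh (algebraMap B P r)) = _
        rw [← IsScalarTower.algebraMap_apply]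
        rfl }
  let e1 : T ≃ₐ[P ⧸ I] Localization.Away c0 :=
    IsLocalization.algEquiv (Submonoid.powers c0) T (Localization.Away c0)
  let e2 : T ≃ₐ[B] Localization.Away c0 :=
    { e1.toRingEquiv with
      commutes' := fun r => by
        show e1 (algebraMap B T r) = _
        rw [← toC.commutes r]
        exact (e1.commutes (algebraMap B (P ⧸ I) r)).trans
          (IsScalarTower.algebraMap_apply B (P ⧸ I) (Localization.Away c0) r).symm }
  have h1 : Algebra.Etale B (Localization.Away c0) :=
    @Algebra.Etale.of_equiv B T (Localization.Away c0) _ _ _ _ _ hET e2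
  have : Algebra.FinitePresentation B (P ⧸ I) :=
    Algebra.FinitePresentation.quotient (Submodule.fg_span (Set.finite_range f))
  refine Algebra.basicOpen_subset_etaleLocus_iff_etale.2 h1 (?_ : c0 ∉ Q.asIdeal)
  intro hc0
  rcases hq.isPrime.mem_or_mem (show g₀ * z ∈ q from hc0) with hgq | hzq
  · exact hg₀ hgq
  · refine he ?_
    have h2 : χg (e * algebraMap P Pg u) = 0 := by
      rw [hzu]
      exact (IsLocalization.Away.lift_eq _ hχg z).trans (Ideal.Quotient.eq_zero_iff_mem.2 hzq)
    rw [map_mul] at h2
    exact (mul_eq_zero.1 h2).resolve_right (((IsLocalization.map_units Pg u).map χg).ne_zero)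

end Groth.RedSub2.EtSection
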