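import Mathlib

/-!
# Points avoiding hypersurfaces over a semilocal ring, after a finite étale extension
-/

set_option autoImplicit false

universe u

open Polynomial TensorProduct

namespace Groth.RedSub2.EtSection

/-- A separable monic polynomial of every positive degree. -/
theorem exists_separable_monic (k : Type u) [Field k] (N : ℕ) (hN : 0 < N) :
    ∃ h : k[X], h.Monic ∧ h.natDegree = N ∧ h.Separable := by
  by_cases hchar : (N : k) = 0
  · have h2 : 1 < N := by
      rcases (Nat.one_le_iff_ne_zero.2 hN.ne').lt_or_eq with h | h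
      · exact h
      · simp [← h] at hchar
    refine ⟨X ^ N - X, monic_X_pow_sub (by simpa using h2), ?_, ?_⟩
    · rw [natDegree_sub_eq_left_of_natDegree_lt (by simpa using h2), natDegree_X_pow]
    · have hd : derivative (X ^ N - X : k[X]) = -1 := by
        rw [derivative_sub, derivative_X_pow, derivative_X, hchar, map_zero, zero_mul, zero_sub]
      rw [separable_def, hd]
      exact ⟨0, -1, by ring⟩
  · exact ⟨X ^ N - C 1, monic_X_pow_sub_C _ hN.ne', natDegree_X_pow_sub_C,
      separable_X_pow_sub_C 1 hchar one_ne_zero⟩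

/-- A nonzero polynomial is nonzero at a point given by polynomials in a root of a separable polynomial. -/
theorem exists_root_data {σ : Type} [Fintype σ] (k : Type u) [Field k] (Q : MvPolynomial σ k) (hQ : Q ≠ 0) :
    ∃ (g : k[X]) (r : σ → k[X]), g.Monic ∧ g.Separable ∧ 0 < g.natDegree ∧
      ∀ (K : Type u) [Field K] (φ : k →+* K) (θ : K), g.eval₂ φ θ = 0 →
        MvPolynomial.eval₂ φ (fun i => (r i).eval₂ φ θ) Q ≠ 0 := by
  classical
  let S := SeparableClosure k
  haveI : Infinite S := by
    by_contra hfin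
    rw [not_infinite_iff_finite] at hfin
    haveI := Fintype.ofFinite S
    obtain ⟨x, hx⟩ := IsSepClosed.exists_root (X ^ (Fintype.card S) - X + 1 : S[X])
      (by
        have h1 := Fintype.one_lt_card (α := S)
        rw [show (X ^ (Fintype.card S) - X + 1 : S[X]) = X ^ (Fintype.card S) + (1 - X) by ring]
        rw [degree_add_eq_left_of_degree_lt]
        · rw [degree_X_pow]; exact_mod_cast Fintype.card_ne_zero
        · refine lt_of_le_of_lt (degree_sub_le _ _) ?_
          rw [degree_one, degree_X, degree_X_pow]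
          exact max_lt (by exact_mod_cast Fintype.card_pos) (by exact_mod_cast h1))
      (by
        rw [separable_def]
        have hc : ((Fintype.card S : ℕ) : S) = 0 := Nat.cast_card_eq_zero S
        rw [derivative_add, derivative_sub, derivative_X_pow, derivative_X, derivative_one, hc,
          map_zero, zero_mul, zero_sub, add_zero]
        exact ⟨0, -1, by ring⟩)
    rw [IsRoot.def, eval_add, eval_sub, eval_pow, eval_X, eval_one, FiniteField.pow_card, sub_self,
      zero_add] at hx
    exact one_ne_zero hx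
  obtain ⟨x, hx⟩ : ∃ x : σ → S, MvPolynomial.eval₂ (algebraMap k S) x Q ≠ 0 := by
    by_contra hall
    push Not at hall
    refine hQ (MvPolynomial.map_injective (algebraMap k S) (algebraMap k S).injective ?_)
    rw [map_zero]
    refine MvPolynomial.funext fun x => ?_
    rw [map_zero, MvPolynomial.eval_map]
    exact hall x
  let L := IntermediateField.adjoin k (Set.range x)
  haveI : FiniteDimensional k L :=
    IntermediateField.finiteDimensional_adjoin fun y _ => Algebra.IsIntegral.isIntegral y
  obtain ⟨θ₀, hθ₀⟩ := Field.exists_primitive_element k L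
  have hint : IsIntegral k θ₀ := Algebra.IsIntegral.isIntegral θ₀
  have hr : ∀ i, ∃ r : k[X], aeval θ₀ r = (⟨x i, IntermediateField.subset_adjoin _ _ ⟨i, rfl⟩⟩ : L) := by
    intro i
    have : (⟨x i, IntermediateField.subset_adjoin _ _ ⟨i, rfl⟩⟩ : L) ∈
        (IntermediateField.adjoin k {θ₀}).toSubalgebra := by rw [hθ₀]; trivial
    rw [IntermediateField.adjoin_simple_toSubalgebra_of_isAlgebraic hint.isAlgebraic,
      Algebra.adjoin_singleton_eq_range_aeval] at this
    exact this
  choose r hr using hr
  have hirr := minpoly.irreducible hint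
  refine ⟨minpoly k θ₀, r, minpoly.monic hint, Algebra.IsSeparable.isSeparable k θ₀,
    minpoly.natDegree_pos hint, fun K _ φ θ hθ h0 => ?_⟩
  let G : k[X] := MvPolynomial.eval₂ C r Q
  have hG : ∀ (K : Type u) [Field K] (φ : k →+* K) (θ : K),
      G.eval₂ φ θ = MvPolynomial.eval₂ φ (fun i => (r i).eval₂ φ θ) Q := by
    intro K _ φ θ
    show Polynomial.eval₂RingHom φ θ (MvPolynomial.eval₂Hom C r Q) = MvPolynomial.eval₂Hom φ _ Q
    rw [MvPolynomial.map_eval₂Hom]
    congr 1
    congr 1
    ext a
    simp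
  have hndvd : ¬ minpoly k θ₀ ∣ G := by
    intro hdvd
    have h1 : aeval θ₀ G = 0 := minpoly.dvd_iff.1 hdvd
    refine hx ?_
    have h2 := congrArg L.val h1
    rw [← aeval_algHom_apply, map_zero, aeval_def, hG] at h2
    rw [← h2]
    congr 1
    funext i
    rw [← aeval_def, aeval_algHom_apply, hr]
    rfl
  obtain ⟨a, b, hab⟩ := (hirr.coprime_iff_not_dvd).2 hndvd
  have h1 := congrArg (fun p => p.eval₂ φ θ) hab
  simp only [eval₂_add, eval₂_mul, eval₂_one, hθ, mul_zero, zero_add, hG, h0] at h1
  exact zero_ne_one h1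

/-- A monic polynomial over `A` which is separable modulo all maximal ideals gives a finite étale algebra. -/
theorem adjoinRoot_etale {A : Type u} [CommRing A] {f : A[X]} (hf : f.Monic)
    (hsep : ∀ (m : Ideal A) [m.IsMaximal], (f.map (Ideal.Quotient.mk m)).Separable) :
    Module.Finite A (AdjoinRoot f) ∧ Algebra.Etale A (AdjoinRoot f) := by
  have hcop : IsCoprime f (derivative f) := by
    rw [← Ideal.isCoprime_span_singleton_iff, Ideal.isCoprime_iff_sup_eq]
    by_contra hne
    obtain ⟨M, hM, hle⟩ := Ideal.exists_le_maximal _ hne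
    have hfM : f ∈ M := hle (Ideal.mem_sup_left (Ideal.mem_span_singleton_self f))
    have hf'M : derivative f ∈ M := hle (Ideal.mem_sup_right (Ideal.mem_span_singleton_self _))
    let N : Ideal (AdjoinRoot f) := M.map (AdjoinRoot.mk f)
    have hker : RingHom.ker (AdjoinRoot.mk f) ≤ M := by
      intro p hp
      rw [RingHom.mem_ker, AdjoinRoot.mk_eq_zero] at hp
      obtain ⟨q, rfl⟩ := hp
      exact M.mul_mem_right q hfM
    have hN : N.IsMaximal :=
      Ideal.map_eq_top_or_isMaximal_of_surjective _ AdjoinRoot.mk_surjective hM |>.resolve_left fun h => by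
        have := congrArg (Ideal.comap (AdjoinRoot.mk f)) h
        rw [Ideal.comap_map_of_surjective _ AdjoinRoot.mk_surjective, Ideal.comap_top,
          ← RingHom.ker_eq_comap_bot, sup_eq_left.2 hker] at this
        exact hM.ne_top this
    have := hf.finite_adjoinRoot
    have : Algebra.IsIntegral A (AdjoinRoot f) := Algebra.IsIntegral.of_finite A _
    let m := N.comap (algebraMap A (AdjoinRoot f))
    have : m.IsMaximal := Ideal.isMaximal_comap_of_isIntegral_of_isMaximal N
    obtain ⟨a, b, hab⟩ := hsep m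
    obtain ⟨a', rfl⟩ := Polynomial.map_surjective _ Ideal.Quotient.mk_surjective a
    obtain ⟨b', rfl⟩ := Polynomial.map_surjective _ Ideal.Quotient.mk_surjective b
    rw [derivative_map, ← Polynomial.map_mul, ← Polynomial.map_mul, ← Polynomial.map_add,
      ← Polynomial.map_one (Ideal.Quotient.mk m), ← sub_eq_zero, ← Polynomial.map_sub] at hab
    have hmem : a' * f + b' * derivative f - 1 ∈ M := by
      have h1 : a' * f + b' * derivative f - 1 ∈ RingHom.ker (mapRingHom (Ideal.Quotient.mk m)) := hab
      rw [Polynomial.ker_mapRingHom, Ideal.mk_ker] at h1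
      refine Ideal.map_le_iff_le_comap.2 (fun x hx => ?_) h1
      have h2 : AdjoinRoot.mk f (C x) ∈ N := hx
      rw [← Ideal.mem_comap, Ideal.comap_map_of_surjective _ AdjoinRoot.mk_surjective,
        ← RingHom.ker_eq_comap_bot, sup_eq_left.2 hker] at h2
      exact h2
    exact hM.ne_top ((Ideal.eq_top_iff_one M).2 (by
      have := sub_mem (add_mem (M.mul_mem_left a' hfM) (M.mul_mem_left b' hf'M)) hmem
      simpa using this))
  obtain ⟨a, b, hab⟩ := hcop
  let P : StandardEtalePair A :=
    { f := f, monic_f := hf, g := 1, cond := ⟨b, a, 0, by rw [pow_zero, ← hab]; ring⟩ }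
  have hone : IsUnit (AdjoinRoot.mk P.f P.g) := by simp [P]
  exact ⟨hf.finite_adjoinRoot, Algebra.Etale.of_equiv (P.equivAwayAdjoinRoot.trans
    ((IsLocalization.atUnit (AdjoinRoot P.f) (Localization.Away (AdjoinRoot.mk P.f P.g)) _
      hone).symm.restrictScalars A))⟩

/-- One point of a semilocal ring: a finite étale extension with values avoiding a hypersurface over it. -/
theorem exists_values_at {σ : Type} [Fintype σ] (A : Type u) [CommRing A] [Finite (MaximalSpectrum A)]
    (m : MaximalSpectrum A) (P : MvPolynomial σ A)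
    (hP : MvPolynomial.map (Ideal.Quotient.mk m.asIdeal) P ≠ 0) :
    ∃ (B : Type u) (_ : CommRing B) (_ : Algebra A B) (b : σ → B),
      Module.Finite A B ∧ Algebra.Etale A B ∧ Module.FaithfullyFlat A B ∧
      ∀ (K : Type u) [Field K] (φ : B →+* K), m.asIdeal ≤ RingHom.ker (φ.comp (algebraMap A B)) →
        MvPolynomial.eval₂ (φ.comp (algebraMap A B)) (φ ∘ b) P ≠ 0 := by
  classical
  letI : Field (A ⧸ m.asIdeal) := Ideal.Quotient.field _
  obtain ⟨g, r, hg, hgsep, hgdeg, hgr⟩ := exists_root_data (A ⧸ m.asIdeal) _ hP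
  set N := g.natDegree with hN
  have hh : ∀ m' : MaximalSpectrum A, ∃ h : (A ⧸ m'.asIdeal)[X], h.Monic ∧ h.natDegree = N ∧ h.Separable :=
    fun m' => by
      letI : Field (A ⧸ m'.asIdeal) := Ideal.Quotient.field _
      exact exists_separable_monic _ N hgdeg
  choose h hh₁ hh₂ hh₃ using hh
  let H : ∀ m' : MaximalSpectrum A, (A ⧸ m'.asIdeal)[X] := Function.update h m g
  have hH : ∀ m', (H m').Monic ∧ (H m').natDegree = N ∧ (H m').Separable := fun m' => by
    rcases eq_or_ne m' m with rfl | hne
    · simp only [H, Function.update_self]; exact ⟨hg, hN.symm, hgsep⟩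
    · simp only [H, Function.update_of_ne hne]; exact ⟨hh₁ m', hh₂ m', hh₃ m'⟩
  have hc : ∀ i : ℕ, ∃ c : A, ∀ m' : MaximalSpectrum A, Ideal.Quotient.mk m'.asIdeal c = (H m').coeff i :=
    fun i => Ideal.pi_quotient_surjective (I := fun m' : MaximalSpectrum A => m'.asIdeal)
      (fun a b hab => Ideal.isCoprime_of_isMaximal fun e => hab (MaximalSpectrum.ext e)) _
  choose c hc using hc
  let f : A[X] := X ^ N + ∑ i ∈ Finset.range N, C (c i) * X ^ i
  have hf : f.Monic := monic_X_pow_add (by
    rw [Finset.range_eq_Ico]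
    exact lt_of_le_of_lt (degree_sum_le _ _) ((Finset.sup_lt_iff (WithBot.bot_lt_coe N)).2 fun i hi =>
      (degree_C_mul_X_pow_le i (c i)).trans_lt (WithBot.coe_lt_coe.2 (Finset.mem_Ico.1 hi).2)))
  have hfmap : ∀ m' : MaximalSpectrum A, f.map (Ideal.Quotient.mk m'.asIdeal) = H m' := fun m' => by
    obtain ⟨h1, h2, -⟩ := hH m'
    conv_rhs => rw [h1.as_sum, h2]
    simp only [f, Polynomial.map_add, Polynomial.map_pow, map_X, Polynomial.map_sum, Polynomial.map_mul,
      map_C, hc]
  obtain ⟨hfin, het⟩ := adjoinRoot_etale hf fun m' hm' => by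
    rw [hfmap ⟨m', hm'⟩]; exact (hH _).2.2
  haveI : Nontrivial A := ⟨⟨0, 1, fun h => m.isMaximal.ne_top ((Ideal.eq_top_iff_one _).2 (h ▸ m.asIdeal.zero_mem))⟩⟩
  have hNf : f.natDegree = N := by
    have := hfmap m
    rw [← hf.natDegree_map (Ideal.Quotient.mk m.asIdeal), this]
    exact (hH m).2.1
  haveI := Module.Free.of_basis (AdjoinRoot.powerBasis' hf).basis
  haveI : Nontrivial (AdjoinRoot f) :=
    ⟨⟨_, 0, (AdjoinRoot.powerBasis' hf).basis.ne_zero ⟨0, by
      rw [AdjoinRoot.powerBasis'_dim, hNf]; exact hgdeg⟩⟩⟩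
  let r' : σ → A[X] := fun i => (Polynomial.map_surjective _ Ideal.Quotient.mk_surjective (r i)).choose
  have hr' : ∀ i, (r' i).map (Ideal.Quotient.mk m.asIdeal) = r i := fun i =>
    (Polynomial.map_surjective _ Ideal.Quotient.mk_surjective (r i)).choose_spec
  refine ⟨AdjoinRoot f, inferInstance, inferInstance, fun i => AdjoinRoot.mk f (r' i), hfin, het,
    inferInstance, fun K _ φ hφ => ?_⟩
  let φm : A ⧸ m.asIdeal →+* K := Ideal.Quotient.lift _ (φ.comp (algebraMap A _)) (fun a ha => hφ ha)
  have hcomp : φm.comp (Ideal.Quotient.mk m.asIdeal) = φ.comp (algebraMap A (AdjoinRoot f)) :=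
    RingHom.ext fun a => rfl
  have hev : ∀ p : A[X], φ (AdjoinRoot.mk f p) =
      (p.map (Ideal.Quotient.mk m.asIdeal)).eval₂ φm (φ (AdjoinRoot.root f)) := fun p => by
    rw [Polynomial.eval₂_map, hcomp, ← AdjoinRoot.aeval_eq, aeval_def, Polynomial.hom_eval₂]
  have hroot := hev f
  rw [AdjoinRoot.mk_self, map_zero, hfmap m] at hroot
  simp only [H, Function.update_self] at hroot
  have h1 := hgr K φm (φ (AdjoinRoot.root f)) hroot.symm
  rw [MvPolynomial.eval₂_map, hcomp] at h1
  convert h1 using 2
  funext i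
  rw [Function.comp_apply, hev, hr']

/-- Values avoiding hypersurfaces over all closed points, in one finite étale extension. -/
theorem exists_values {σ : Type} [Fintype σ] (A : Type u) [CommRing A] [Finite (MaximalSpectrum A)]
    (P : MaximalSpectrum A → MvPolynomial σ A)
    (hP : ∀ m, MvPolynomial.map (Ideal.Quotient.mk m.asIdeal) (P m) ≠ 0) :
    ∃ (B : Type u) (_ : CommRing B) (_ : Algebra A B) (b : σ → B),
      Module.Finite A B ∧ Algebra.Etale A B ∧ Module.FaithfullyFlat A B ∧
      ∀ (m : MaximalSpectrum A) (K : Type u) [Field K] (φ : B →+* K),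
        m.asIdeal ≤ RingHom.ker (φ.comp (algebraMap A B)) →
        MvPolynomial.eval₂ (φ.comp (algebraMap A B)) (φ ∘ b) (P m) ≠ 0 := by
  classical
  haveI := Fintype.ofFinite (MaximalSpectrum A)
  suffices H : ∀ s : Finset (MaximalSpectrum A), ∃ (B : Type u) (_ : CommRing B) (_ : Algebra A B) (b : σ → B),
      Module.Finite A B ∧ Algebra.Etale A B ∧ Module.FaithfullyFlat A B ∧
      ∀ m ∈ s, ∀ (K : Type u) [Field K] (φ : B →+* K),
        m.asIdeal ≤ RingHom.ker (φ.comp (algebraMap A B)) →
        MvPolynomial.eval₂ (φ.comp (algebraMap A B)) (φ ∘ b) (P m) ≠ 0 by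
    obtain ⟨B, i₁, i₂, b, h₁, h₂, h₃, h₄⟩ := H Finset.univ
    exact ⟨B, i₁, i₂, b, h₁, h₂, h₃, fun m => h₄ m (Finset.mem_univ m)⟩
  intro s
  induction s using Finset.induction with
  | empty => exact ⟨A, inferInstance, inferInstance, 0, inferInstance, inferInstance, inferInstance, by simp⟩
  | insert m₀ s hm₀ ih =>
    obtain ⟨B₁, _, _, b₁, h₁, h₂, h₃, h₄⟩ := ih
    obtain ⟨B₂, _, _, b₂, g₁, g₂, g₃, g₄⟩ := exists_values_at A m₀ (P m₀) (hP m₀)
    obtain ⟨e, he⟩ := Ideal.pi_quotient_surjective (I := fun m' : MaximalSpectrum A => m'.asIdeal)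
      (fun a b hab => Ideal.isCoprime_of_isMaximal fun h => hab (MaximalSpectrum.ext h))
      (fun m' => if m' = m₀ then 1 else 0)
    let B := B₁ ⊗[A] B₂
    have : Algebra.Etale A B := Algebra.Etale.comp A B₁ B
    have : Module.Finite A B := Module.Finite.trans B₁ B
    have : Module.FaithfullyFlat A B := Module.FaithfullyFlat.trans A B₁ B
    refine ⟨B, inferInstance, inferInstance,
      fun i => (1 - algebraMap A B e) * (b₁ i ⊗ₜ 1) + algebraMap A B e * (1 ⊗ₜ b₂ i),
      inferInstance, inferInstance, inferInstance, fun m hm K _ φ hφ => ?_⟩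
    have hcomp₁ : (φ.comp (Algebra.TensorProduct.includeLeft : B₁ →ₐ[A] B).toRingHom).comp (algebraMap A B₁) =
        φ.comp (algebraMap A B) :=
      RingHom.ext fun a => congrArg φ ((Algebra.TensorProduct.includeLeft : B₁ →ₐ[A] B).commutes a)
    have hcomp₂ : (φ.comp (Algebra.TensorProduct.includeRight : B₂ →ₐ[A] B).toRingHom).comp (algebraMap A B₂) =
        φ.comp (algebraMap A B) :=
      RingHom.ext fun a => congrArg φ ((Algebra.TensorProduct.includeRight : B₂ →ₐ[A] B).commutes a)
    have hval : φ (algebraMap A B e) = if m = m₀ then 1 else 0 := by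
      have h1 := he m
      by_cases hmm : m = m₀
      · rw [if_pos hmm] at h1 ⊢
        have h2 : e - 1 ∈ m.asIdeal := Ideal.Quotient.eq.1 (h1.trans (map_one _).symm)
        have h3 := hφ h2
        rw [RingHom.mem_ker, map_sub, map_one, sub_eq_zero] at h3
        exact h3
      · rw [if_neg hmm] at h1 ⊢
        exact hφ (Ideal.Quotient.eq_zero_iff_mem.1 h1)
    rcases Finset.mem_insert.1 hm with rfl | hms
    · have h := g₄ K (φ.comp (Algebra.TensorProduct.includeRight : B₂ →ₐ[A] B).toRingHom) (by rw [hcomp₂]; exact hφ)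
      rw [hcomp₂] at h
      convert h using 2
      funext i
      simp only [Function.comp_apply, map_add, map_mul, map_sub, map_one, hval, if_pos, sub_self,
        zero_mul, zero_add, one_mul]
      rfl
    · have hne : m ≠ m₀ := fun h => hm₀ (h ▸ hms)
      have h := h₄ m hms K (φ.comp (Algebra.TensorProduct.includeLeft : B₁ →ₐ[A] B).toRingHom) (by rw [hcomp₁]; exact hφ)
      rw [hcomp₁] at h
      convert h using 2
      funext i
      simp only [Function.comp_apply, map_add, map_mul, map_sub, map_one, hval, if_neg hne, sub_zero,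
        zero_mul, add_zero, one_mul]
      rfl

end Groth.RedSub2.EtSection
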