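import Groth.Agent.RedSub2.EtSection.Section
import Groth.Agent.RedSub2.EtSection.Locus
import Groth.Agent.RedSub2.EtSection.Values

/-!
# A finite étale multisection of a smooth projective scheme over a semilocal ring
-/

set_option autoImplicit false

universe u

open CategoryTheory CategoryTheory.Limits AlgebraicGeometry TopologicalSpace

namespace Groth.RedSub2.EtSection

section main

variable {A B : Type u} [CommRing A] [CommRing B] [Algebra A B] [Module.Finite A B] {d n : ℕ}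
  {X X' : Scheme.{u}} {π : X' ⟶ X} [IsAffineHom π] {g' : X' ⟶ Spec (CommRingCat.of B)}
  {g : X ⟶ Spec (CommRingCat.of A)} {𝒰 : Atlas X n}

theorem map_form {R : Type u} [CommRing R] (b : Fin (n + 1) → B) (c : Fin (n + 1))
    (χ : Γ(X', π ⁻¹ᵁ 𝒰.U c) →+* R) :
    χ ((𝒰.pb π).form g' b c) = ∑ j, χ (sec g' _ (b j)) * χ (π.app (𝒰.U c) (𝒰.t c j)) := by
  refine (map_sum χ (fun j => sec g' (π ⁻¹ᵁ 𝒰.U c) (b j) * π.app (𝒰.U c) (𝒰.t c j)) Finset.univ).trans ?_
  exact Finset.sum_congr rfl fun j _ => map_mul χ _ _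

/-- The linear forms have no common zero. -/
theorem zeros_le_openOf [IsProper g'] (w : π ≫ g = g' ≫ Spec.map (CommRingCat.ofHom (algebraMap A B)))
    (b : Fin (d + 1) → Fin (n + 1) → B)
    (hgood : ∀ (K : Type u) [Field K] (φ : B →+* K), (RingHom.ker φ).IsMaximal →
      Good g 𝒰 (φ.comp (algebraMap A B)) (fun i j => φ (b i j)))
    (x : X') (hx : ∀ i : Fin d, x ∉ (𝒰.pb π).openOf g' (b i.succ)) : x ∈ (𝒰.pb π).openOf g' (b 0) := by
  by_contra h0
  let Z : Set X' := ⋂ i : Fin (d + 1), ((𝒰.pb π).openOf g' (b i) : Set X')ᶜ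
  have hZ : Z = ∅ := by
    refine eq_empty_of_proper g' Z (isClosed_iInter fun i => (Opens.isOpen _).isClosed_compl) ?_
    intro y hy hmax
    obtain ⟨c, hc⟩ := (𝒰.pb π).exists_mem y
    let χ : Γ(X', π ⁻¹ᵁ 𝒰.U c) →+* X'.residueField y := (X'.evaluation (π ⁻¹ᵁ 𝒰.U c) y hc).hom
    have hker : RingHom.ker (χ.comp (sec g' _)) = (g' y).asIdeal :=
      Ideal.ext fun r => eval_sec_eq_zero_iff g' _ y hc r
    refine (hgood _ (χ.comp (sec g' _)) (hker ▸ hmax)).empty c (χ.comp (π.app (𝒰.U c)).hom)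
      (RingHom.ext fun a => ?_) fun i => ?_
    · show χ (π.app (𝒰.U c) (sec g (𝒰.U c) a)) = χ (sec g' _ (algebraMap A B a))
      rw [← sec_algebraMap w (𝒰.U c) (π ⁻¹ᵁ 𝒰.U c) le_rfl, Scheme.Hom.app_eq_appLE]
    · have h1 : χ ((𝒰.pb π).form g' (b i) c) = 0 := by
        refine (Scheme.evaluation_eq_zero_iff_notMem_basicOpen _ _ _ _).2 fun h => ?_
        exact Set.mem_iInter.1 hy i (((𝒰.pb π).openOf_inf g' (b i) c).ge h).1
      rw [map_form] at h1
      exact h1
  have : x ∈ Z := Set.mem_iInter.2 (Fin.forall_fin_succ.2 ⟨h0, fun i => hx i⟩)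
  rw [hZ] at this
  exact this

/-- Tangent vectors of the zero scheme vanish where the tangent map of good forms is injective. -/
theorem derivation_eq_zero
    (P : IsPullback π g' g (Spec.map (CommRingCat.ofHom (algebraMap A B))))
    (b₀ : Fin (n + 1) → B) (c : Fin (n + 1)) {W0 : X'.Opens} (hW0 : IsAffineOpen W0)
    (hle : X'.basicOpen ((𝒰.pb π).form g' b₀ c) ≤ W0) (s : Γ(X', W0))
    (hs : X'.basicOpen s = X'.basicOpen ((𝒰.pb π).form g' b₀ c))
    (b : Fin d → Fin (n + 1) → B) (f : Fin d → Γ(X', W0))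
    (hf : ∀ i, rr hle (f i) * rr (X'.basicOpen_le _) ((𝒰.pb π).form g' b₀ c) =
      rr (X'.basicOpen_le ((𝒰.pb π).form g' b₀ c)) ((𝒰.pb π).form g' (b i) c))
    [Algebra B Γ(X', W0)] {K : Type u} [Field K] [Algebra Γ(X', W0) K] [Algebra B K]
    [IsScalarTower B Γ(X', W0) K] (χ0 : Γ(X', W0) →+* K) (hχs : IsUnit (χ0 s)) (hχf : ∀ i, χ0 (f i) = 0)
    {D : Derivation B Γ(X', W0) K} (hχ : ∀ z, algebraMap Γ(X', W0) K z = χ0 z)
    (hD : ∀ i, D (f i) = 0)
    (htan : ∀ c' (Δ : Γ(X, 𝒰.U c') →+* TrivSqZeroExt K K),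
      Δ.comp (sec g (𝒰.U c')) = (TrivSqZeroExt.inlHom K K).comp ((χ0.comp (sec g' W0)).comp (algebraMap A B)) →
      (∀ i : Fin d, ∑ j, TrivSqZeroExt.inl (χ0 (sec g' W0 (b i j))) * Δ (𝒰.t c' j) = 0) →
      ∀ y, (Δ y).snd = 0)
    (halg : ∀ r, algebraMap B Γ(X', W0) r = sec g' W0 r) : D = 0 := by
  let Wp := X'.basicOpen ((𝒰.pb π).form g' b₀ c)
  let Δ0 : Γ(X', W0) →+* TrivSqZeroExt K K :=
    { toFun := fun z => TrivSqZeroExt.inl (χ0 z) + TrivSqZeroExt.inr (D z)
      map_one' := by simp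
      map_mul' := fun z z' => by
        ext
        · simp
        · simp only [Derivation.leibniz, Algebra.smul_def, hχ]
          simp
          ring
      map_zero' := by simp
      map_add' := fun z z' => by ext <;> simp }
  have hΔsec : ∀ r, Δ0 (sec g' W0 r) = TrivSqZeroExt.inl (χ0 (sec g' W0 r)) := fun r => by
    show TrivSqZeroExt.inl (χ0 (sec g' W0 r)) + TrivSqZeroExt.inr (D (sec g' W0 r)) = _
    rw [← halg r, Derivation.map_algebraMap, TrivSqZeroExt.inr_zero, add_zero]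
  have hΔf : ∀ i, Δ0 (f i) = 0 := fun i => by
    show TrivSqZeroExt.inl (χ0 (f i)) + TrivSqZeroExt.inr (D _) = 0
    rw [hD i, hχf, TrivSqZeroExt.inl_zero, TrivSqZeroExt.inr_zero, add_zero]
  have hunit : IsUnit (Δ0 s) := by
    rw [TrivSqZeroExt.isUnit_iff_isUnit_fst]
    simpa [Δ0] using hχs.ne_zero
  letI : Algebra Γ(X', W0) Γ(X', Wp) := (rr hle).toAlgebra
  haveI : IsLocalization.Away s Γ(X', Wp) := hW0.isLocalization_of_eq_basicOpen s (homOfLE hle) hs.symm
  let Δ2 : Γ(X', Wp) →+* TrivSqZeroExt K K := IsLocalization.Away.lift s hunit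
  have hΔ2 : ∀ z, Δ2 (rr hle z) = Δ0 z := fun z => IsLocalization.Away.lift_eq _ hunit z
  let Δ1 : Γ(X', π ⁻¹ᵁ 𝒰.U c) →+* TrivSqZeroExt K K :=
    Δ2.comp (rr (X'.basicOpen_le ((𝒰.pb π).form g' b₀ c)))
  have hΔ1sec : ∀ r, Δ1 (sec g' _ r) = TrivSqZeroExt.inl (χ0 (sec g' W0 r)) := fun r => by
    refine (congrArg Δ2 ((rr_sec g' _ r).trans (rr_sec g' hle r).symm)).trans ?_
    rw [hΔ2, hΔsec]
  have hψ := htan c (Δ1.comp (π.app (𝒰.U c)).hom)
    (RingHom.ext fun a => by
      show Δ1 (π.app (𝒰.U c) (sec g (𝒰.U c) a)) = TrivSqZeroExt.inl (χ0 (sec g' W0 (algebraMap A B a)))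
      rw [← hΔ1sec, ← sec_algebraMap P.w (𝒰.U c) (π ⁻¹ᵁ 𝒰.U c) le_rfl, Scheme.Hom.app_eq_appLE])
    (fun i => by
      have h1 : Δ1 ((𝒰.pb π).form g' (b i) c) = 0 := by
        refine (congrArg Δ2 (hf i)).symm.trans ?_
        rw [map_mul, hΔ2, hΔf, zero_mul]
      refine Eq.trans ?_ ((map_form (b i) c Δ1).symm.trans h1)
      exact Finset.sum_congr rfl fun j _ => by rw [hΔ1sec]; rfl)
  let Δ1' : Γ(X', π ⁻¹ᵁ 𝒰.U c) →+* TrivSqZeroExt K K :=
    (TrivSqZeroExt.inlHom K K).comp ((TrivSqZeroExt.fstHom K K K).toRingHom.comp Δ1)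
  have h11 : Δ1 = Δ1' := by
    refine hom_ext P _ _ (RingHom.ext fun y => ?_) (RingHom.ext fun r => ?_) (𝒰.affine c)
    · exact TrivSqZeroExt.ext (by simp [Δ1']) ((hψ y).trans (by simp [Δ1']))
    · show Δ1 (sec g' _ r) = TrivSqZeroExt.inl (Δ1 (sec g' _ r)).fst
      rw [hΔ1sec]
      simp
  letI : Algebra Γ(X', π ⁻¹ᵁ 𝒰.U c) Γ(X', Wp) :=
    (rr (X'.basicOpen_le ((𝒰.pb π).form g' b₀ c))).toAlgebra
  have hloc1 : IsLocalization.Away ((𝒰.pb π).form g' b₀ c : Γ(X', π ⁻¹ᵁ 𝒰.U c)) Γ(X', Wp) :=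
    ((𝒰.pb π).affine c).isLocalization_of_eq_basicOpen _ (homOfLE (X'.basicOpen_le _)) rfl
  have h22 : Δ2 = (TrivSqZeroExt.inlHom K K).comp ((TrivSqZeroExt.fstHom K K K).toRingHom.comp Δ2) :=
    @IsLocalization.ringHom_ext _ _ _ _ _ _ hloc1 _ _ Δ2
      ((TrivSqZeroExt.inlHom K K).comp ((TrivSqZeroExt.fstHom K K K).toRingHom.comp Δ2)) h11
  refine Derivation.ext fun z => ?_
  have h1 := congrArg TrivSqZeroExt.snd (RingHom.congr_fun h22 (rr hle z))
  simp only [RingHom.comp_apply, hΔ2] at h1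
  simpa [Δ0] using h1

/-- The zero scheme of good linear forms is finite étale and surjective. -/
theorem exists_finite_etale_zeros [IsProper g'] [SmoothOfRelativeDimension d g']
    (P : IsPullback π g' g (Spec.map (CommRingCat.ofHom (algebraMap A B))))
    (b : Fin (d + 1) → Fin (n + 1) → B)
    (hgood : ∀ (K : Type u) [Field K] (φ : B →+* K), (RingHom.ker φ).IsMaximal →
      Good g 𝒰 (φ.comp (algebraMap A B)) (fun i j => φ (b i j))) :
    ∃ (C : Type u) (_ : CommRing C) (_ : Algebra B C) (σ : Spec (CommRingCat.of C) ⟶ X'),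
      Module.Finite B C ∧ Algebra.Etale B C ∧
      AlgebraicGeometry.Surjective (Spec.map (CommRingCat.ofHom (algebraMap B C))) ∧
      σ ≫ g' = Spec.map (CommRingCat.ofHom (algebraMap B C)) := by
  classical
  set 𝒱 := 𝒰.pb π with h𝒱
  obtain ⟨s, hs, hone, hbasic, hW0⟩ := exists_normalized g' 𝒱 (b 0)
  let W0 := 𝒱.openOf g' (b 0)
  let Wp := fun c => X'.basicOpen (𝒱.form g' (b 0) c)
  have hWp : ∀ c, Wp c ≤ W0 := fun c => le_iSup (fun c => X'.basicOpen (𝒱.form g' (b 0) c)) c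
  let f : Fin d → Γ(X', W0) := fun i => ∑ j, sec g' W0 (b i.succ j) * s j
  have hf : ∀ i c, rr (hWp c) (f i) * rr (X'.basicOpen_le _) (𝒱.form g' (b 0) c) =
      rr (X'.basicOpen_le (𝒱.form g' (b 0) c)) (𝒱.form g' (b i.succ) c) := fun i c => by
    show rr (hWp c) (∑ j, sec g' W0 (b i.succ j) * s j) * _ = _
    rw [map_sum, Finset.sum_mul]
    refine Eq.trans ?_ (map_sum (rr (X'.basicOpen_le (𝒱.form g' (b 0) c)))
      (fun j => sec g' (𝒱.U c) (b i.succ j) * 𝒱.t c j) Finset.univ).symm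
    refine Finset.sum_congr rfl fun j _ => ?_
    rw [map_mul, map_mul, mul_assoc]
    refine congrArg₂ (· * ·) ((rr_sec g' _ _).trans (rr_sec g' _ _).symm) ?_
    exact hs c j (hWp c)
  have hfopen : ∀ i, X'.basicOpen (f i) = W0 ⊓ 𝒱.openOf g' (b i.succ) := by
    intro i
    ext x
    constructor
    · intro hx
      refine ⟨X'.basicOpen_le (f i) hx, ?_⟩
      obtain ⟨c, hc⟩ := Opens.mem_iSup.1 (X'.basicOpen_le (f i) hx)
      have h1 := congrArg X'.basicOpen (hf i c)
      rw [X'.basicOpen_mul, basicOpen_rr, basicOpen_rr, basicOpen_rr] at h1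
      have h2 : x ∈ Wp c ⊓ X'.basicOpen (𝒱.form g' (b i.succ) c) := h1.le ⟨⟨hc, hx⟩, hc, hc⟩
      exact Opens.mem_iSup.2 ⟨c, h2.2⟩
    · rintro ⟨hx0, hxi⟩
      obtain ⟨c, hc⟩ := Opens.mem_iSup.1 hx0
      have h1 := congrArg X'.basicOpen (hf i c)
      rw [X'.basicOpen_mul, basicOpen_rr, basicOpen_rr, basicOpen_rr] at h1
      have h2 : x ∈ X'.basicOpen (𝒱.form g' (b i.succ) c) :=
        (𝒱.openOf_inf g' (b i.succ) c).le ⟨hxi, X'.basicOpen_le _ hc⟩
      exact (h1.ge ⟨hc, h2⟩).1.2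
  let I : Ideal Γ(X', W0) := Ideal.span (Set.range f)
  let C := Γ(X', W0) ⧸ I
  letI : Algebra B Γ(X', W0) := (sec g' W0).toAlgebra
  let σ : Spec (CommRingCat.of C) ⟶ X' := Spec.map (CommRingCat.ofHom (Ideal.Quotient.mk I)) ≫ hW0.fromSpec
  have hσ : σ ≫ g' = Spec.map (CommRingCat.ofHom (algebraMap B C)) := by
    simp only [σ, Category.assoc, fromSpec_comp_eq, ← Spec.map_comp]
    rfl
  have hrange : Set.range σ = {x | ∀ i : Fin d, x ∉ 𝒱.openOf g' (b i.succ)} := by
    ext x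
    constructor
    · rintro ⟨y, rfl⟩ i hi
      have h1 : σ y ∈ X'.basicOpen (f i) := by
        rw [hfopen]
        refine ⟨?_, hi⟩
        show hW0.fromSpec _ ∈ W0
        rw [← SetLike.mem_coe, ← hW0.range_fromSpec]
        exact ⟨_, rfl⟩
      have h2 : (Spec.map (CommRingCat.ofHom (Ideal.Quotient.mk I))) y ∈
          hW0.fromSpec ⁻¹ᵁ X'.basicOpen (f i) := h1
      rw [hW0.fromSpec_preimage_basicOpen] at h2
      refine h2 ?_
      show Ideal.Quotient.mk I (f i) ∈ y.asIdeal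
      rw [Ideal.Quotient.eq_zero_iff_mem.2 (Ideal.subset_span (show f i ∈ Set.range f from ⟨i, rfl⟩))]
      exact zero_mem _
    · intro hx
      have hxW : x ∈ W0 := zeros_le_openOf P.w b hgood x hx
      obtain ⟨p, rfl⟩ : x ∈ Set.range hW0.fromSpec := by rw [hW0.range_fromSpec]; exact hxW
      have hp : I ≤ p.asIdeal := by
        rw [Ideal.span_le]
        rintro _ ⟨i, rfl⟩
        by_contra hi
        have h1 : p ∈ hW0.fromSpec ⁻¹ᵁ X'.basicOpen (f i) := by
          rw [hW0.fromSpec_preimage_basicOpen]; exact hi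
        exact hx i ((hfopen i).le h1).2
      obtain ⟨y, hy⟩ : p ∈ Set.range (PrimeSpectrum.comap (Ideal.Quotient.mk I)) := by
        rw [range_comap_of_surjective _ _ Ideal.Quotient.mk_surjective, Ideal.mk_ker]
        exact hp
      refine ⟨y, ?_⟩
      show hW0.fromSpec (PrimeSpectrum.comap (Ideal.Quotient.mk I) y) = _
      rw [hy]
  have hfin : Module.Finite B C := by
    have : IsClosedImmersion (Spec.map (CommRingCat.ofHom (Ideal.Quotient.mk I))) :=
      IsClosedImmersion.spec_of_surjective _ Ideal.Quotient.mk_surjective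
    have : IsPreimmersion σ := inferInstanceAs (IsPreimmersion (_ ≫ _))
    have : IsClosedImmersion σ := by
      refine IsClosedImmersion.of_isPreimmersion σ ?_
      rw [hrange]
      simp only [Set.setOf_forall]
      exact isClosed_iInter fun i => (Opens.isOpen _).isClosed_compl
    have : IsProper (σ ≫ g') := inferInstance
    rw [hσ] at this
    have hF : IsFinite (Spec.map (CommRingCat.ofHom (algebraMap B C))) :=
      IsFinite.iff_isProper_and_isAffineHom.2 ⟨this, inferInstance⟩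
    exact RingHom.finite_algebraMap.1 ((IsFinite.SpecMap_iff _).1 hF)
  have hloc := locally_sec (d := d) g' hW0
  have het : Algebra.Etale B C := by
    have : Algebra.FinitePresentation B Γ(X', W0) := by
      have hLFP : LocallyOfFinitePresentation g' := by
        have := SmoothOfRelativeDimension.smooth d g'
        infer_instance
      have h1 := HasRingHomProperty.appLE @LocallyOfFinitePresentation g' hLFP
        ⟨⊤, isAffineOpen_top _⟩ ⟨W0, hW0⟩ le_top
      exact RingHom.finitePresentation_algebraMap.1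
        ((RingHom.finitePresentation_respectsIso).2 _
          (Scheme.ΓSpecIso (CommRingCat.of B)).symm.commRingCatIsoToRingEquiv h1)
    have : Algebra.FinitePresentation B C := Algebra.FinitePresentation.quotient
      (Submodule.fg_span (Set.finite_range f))
    rw [← Algebra.etaleLocus_eq_univ_iff_etale, Set.eq_univ_iff_forall]
    suffices H : ∀ Q : PrimeSpectrum C, Q.asIdeal.IsMaximal → Q ∈ Algebra.etaleLocus B C by
      intro Q
      obtain ⟨M, hM, hle⟩ := Ideal.exists_le_maximal Q.asIdeal Q.isPrime.ne_top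
      exact Specializes.mem_open (x := Q) ((PrimeSpectrum.le_iff_specializes Q ⟨M, hM.isPrime⟩).1 hle)
        Algebra.isOpen_etaleLocus (H ⟨M, hM.isPrime⟩ hM)
    intro Q hQ
    let q : Ideal Γ(X', W0) := Q.asIdeal.comap (Ideal.Quotient.mk I)
    haveI hq : q.IsMaximal := Ideal.comap_isMaximal_of_surjective _ Ideal.Quotient.mk_surjective
    have hM : ((Q.asIdeal.comap (algebraMap B C))).IsMaximal := by
      haveI := hQ
      haveI : Algebra.IsIntegral B C := Algebra.IsIntegral.of_finite B C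
      exact Ideal.isMaximal_comap_of_isIntegral_of_isMaximal Q.asIdeal
    refine mem_etaleLocus_of_detect f hloc Q hQ fun D hD => ?_
    obtain ⟨c, hc⟩ : ∃ c, s c ∉ q := by
      by_contra hall
      push Not at hall
      refine hq.ne_top ((Ideal.eq_top_iff_one q).2 ?_)
      rw [← hone]
      exact sum_mem fun j _ => q.mul_mem_left _ (hall j)
    letI : Field (Γ(X', W0) ⧸ q) := Ideal.Quotient.field q
    refine derivation_eq_zero P (b 0) c hW0 (hWp c) (s c) (hbasic c) (fun i => b i.succ) f (fun i => hf i c)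
      (K := Γ(X', W0) ⧸ q) (Ideal.Quotient.mk q)
      (isUnit_iff_ne_zero.2 fun h => hc (Ideal.Quotient.eq_zero_iff_mem.1 h))
      (fun i => Ideal.Quotient.eq_zero_iff_mem.2
        (show Ideal.Quotient.mk I (f i) ∈ Q.asIdeal by
          rw [Ideal.Quotient.eq_zero_iff_mem.2 (Ideal.subset_span (show f i ∈ Set.range f from ⟨i, rfl⟩))]
          exact zero_mem _))
      (D := D) (fun _ => rfl) hD
      (fun c Δ h1 h2 => ?_) (fun _ => rfl)
    have hker : RingHom.ker ((Ideal.Quotient.mk q).comp (sec g' W0)) =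
        Q.asIdeal.comap (algebraMap B C) := Ideal.ext fun r => Ideal.Quotient.eq_zero_iff_mem
    exact (hgood _ ((Ideal.Quotient.mk q).comp (sec g' W0)) (hker ▸ hM)).tangent c Δ h1 h2
  refine ⟨C, inferInstance, inferInstance, σ, hfin, het, ⟨fun p => ?_⟩, hσ⟩
  -- surjectivity
  set h := Spec.map (CommRingCat.ofHom (algebraMap B C)) with hh
  have hcl : ∀ M : PrimeSpectrum B, M.asIdeal.IsMaximal → M ∈ Set.range h := by
    intro M hM
    letI : Field (B ⧸ M.asIdeal) := Ideal.Quotient.field _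
    let φ : B →+* B ⧸ M.asIdeal := Ideal.Quotient.mk _
    obtain ⟨c, K', _, ι, ψ, hψ, hz⟩ := (hgood _ φ (by rw [Ideal.mk_ker]; exact hM)).nonempty
    obtain ⟨χ, hχψ, hχB⟩ := exists_lift P (𝒰.affine c) ψ (ι.comp φ) (by rw [hψ, RingHom.comp_assoc])
    let x := ((𝒰.affine c).preimage π).fromSpec ⟨RingHom.ker χ, RingHom.ker_isPrime χ⟩
    have hgx : g' x = M := by
      refine PrimeSpectrum.ext ?_
      rw [asIdeal_apply, hχB, RingHom.ker_eq_comap_bot, ← Ideal.comap_comap, ← RingHom.ker_eq_comap_bot,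
        (RingHom.injective_iff_ker_eq_bot ι).1 ι.injective, ← RingHom.ker_eq_comap_bot]
      exact Ideal.mk_ker
    have hxz : x ∈ Set.range σ := by
      rw [hrange]
      intro i hi
      have hxU : x ∈ π ⁻¹ᵁ 𝒰.U c := by
        rw [← SetLike.mem_coe, ← ((𝒰.affine c).preimage π).range_fromSpec]
        exact ⟨_, rfl⟩
      have h1 : (⟨RingHom.ker χ, RingHom.ker_isPrime χ⟩ : PrimeSpectrum Γ(X', π ⁻¹ᵁ 𝒰.U c)) ∈
          ((𝒰.affine c).preimage π).fromSpec ⁻¹ᵁ X'.basicOpen (𝒱.form g' (b i.succ) c) :=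
        (𝒱.openOf_inf g' (b i.succ) c).le ⟨hi, hxU⟩
      have h2 : (⟨RingHom.ker χ, RingHom.ker_isPrime χ⟩ : PrimeSpectrum Γ(X', π ⁻¹ᵁ 𝒰.U c)) ∈
          PrimeSpectrum.basicOpen (𝒱.form g' (b i.succ) c : Γ(X', π ⁻¹ᵁ 𝒰.U c)) :=
        (((𝒰.affine c).preimage π).fromSpec_preimage_basicOpen _).le h1
      refine h2 ?_
      show χ _ = 0
      refine (map_form (b i.succ) c χ).trans ((Finset.sum_congr rfl fun j _ =>
        congrArg₂ (· * ·) (RingHom.congr_fun hχB _) (RingHom.congr_fun hχψ _)).trans (hz i))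
    obtain ⟨y, hy⟩ := hxz
    refine ⟨y, ?_⟩
    have h1 := congrArg (fun (k : Spec (CommRingCat.of C) ⟶ Spec (CommRingCat.of B)) => k y) hσ
    exact h1.symm.trans ((congrArg g' hy).trans hgx)
  haveI : Etale h := HasRingHomProperty.Spec_iff.2 (RingHom.etale_algebraMap.2 het)
  obtain ⟨M, hM, hle⟩ := Ideal.exists_le_maximal p.asIdeal p.isPrime.ne_top
  exact Specializes.mem_open (x := p) (y := (⟨M, hM.isPrime⟩ : PrimeSpectrum B))
    ((PrimeSpectrum.le_iff_specializes p ⟨M, hM.isPrime⟩).1 hle)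
    h.isOpenMap.isOpen_range (hcl _ hM)

/-- Sections after a finite étale extension, for constant relative dimension. -/
theorem exists_section {A : Type u} [CommRing A] [Finite (MaximalSpectrum A)] {X : Scheme.{u}}
    (g : X ⟶ Spec (CommRingCat.of A)) [IsProper g] [SmoothOfRelativeDimension d g]
    [AlgebraicGeometry.Surjective g] (𝒰 : Atlas X n) (hgen : 𝒰.Generates g) :
    ∃ (S' : Scheme.{u}) (f : S' ⟶ Spec (CommRingCat.of A)) (σ : S' ⟶ X),
      IsFinite f ∧ Etale f ∧ AlgebraicGeometry.Surjective f ∧ σ ≫ g = f := by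
  classical
  choose P hP hP' using fun m : MaximalSpectrum A =>
    exists_poly_good (d := d) g 𝒰 hgen m.asIdeal
  obtain ⟨B, _, _, b, hfin, het, hff, hb⟩ := exists_values A P hP
  let fB := Spec.map (CommRingCat.ofHom (algebraMap A B))
  haveI : SmoothOfRelativeDimension d (pullback.snd g fB) :=
    (smoothOfRelativeDimension_isStableUnderBaseChange d).of_isPullback
      (IsPullback.of_hasPullback g fB) inferInstance
  haveI : IsAffineHom (pullback.fst g fB) := MorphismProperty.pullback_fst g fB inferInstance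
  obtain ⟨C, _, _, σ, hCfin, hCet, hCsurj, hσ⟩ :=
    exists_finite_etale_zeros (g' := pullback.snd g fB) (IsPullback.of_hasPullback g fB)
      (fun i j => b (i, j)) (fun K _ φ hker => by
        haveI : Algebra.IsIntegral A B := Algebra.IsIntegral.of_finite A B
        haveI := hker
        let m : MaximalSpectrum A := ⟨(RingHom.ker φ).comap (algebraMap A B),
          Ideal.isMaximal_comap_of_isIntegral_of_isMaximal _⟩
        have hm : m.asIdeal ≤ RingHom.ker (φ.comp (algebraMap A B)) := fun r hr => hr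
        exact hP' m K _ _ hm (hb m K φ hm))
  let h := Spec.map (CommRingCat.ofHom (algebraMap B C))
  haveI : IsFinite h := (IsFinite.SpecMap_iff _).2 (RingHom.finite_algebraMap.2 hCfin)
  haveI : Etale h := HasRingHomProperty.Spec_iff.2 (RingHom.etale_algebraMap.2 hCet)
  haveI : IsFinite fB := (IsFinite.SpecMap_iff _).2 (RingHom.finite_algebraMap.2 hfin)
  haveI : Etale fB := HasRingHomProperty.Spec_iff.2 (RingHom.etale_algebraMap.2 het)
  haveI : AlgebraicGeometry.Surjective fB := ⟨PrimeSpectrum.comap_surjective_of_faithfullyFlat⟩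
  haveI : AlgebraicGeometry.Surjective h := hCsurj
  refine ⟨Spec (CommRingCat.of C), h ≫ fB, σ ≫ pullback.fst g fB, inferInstance, inferInstance,
    inferInstance, ?_⟩
  rw [Category.assoc, pullback.condition, ← Category.assoc, hσ]

end main

end Groth.RedSub2.EtSection
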