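import Groth.Agent.RedSub2.EtSection.Main
import Groth.Agent.FibreDim.Smooth
import Groth.Agent.Variety2.ProjBasics

/-!
# Splitting a smooth projective scheme by relative dimension
-/

set_option autoImplicit false

universe u

open CategoryTheory CategoryTheory.Limits AlgebraicGeometry TopologicalSpace

namespace Groth.RedSub2.EtSection

variable {X S : Scheme.{u}}

theorem exists_open_smoothOfRelativeDimension (g : X ⟶ S) [Smooth g] (x : X) :
    ∃ (d : ℕ) (V : X.Opens), x ∈ V ∧ SmoothOfRelativeDimension d (V.ι ≫ g) := by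
  obtain ⟨U, hU, V, hV, hx, e, hs⟩ := Smooth.exists_isStandardSmooth g x
  letI := (g.appLE U V e).hom.toAlgebra
  have hs' : Algebra.IsStandardSmooth Γ(S, U) Γ(X, V) := hs
  obtain ⟨ι, σ, hι, hσ, ⟨P⟩⟩ := hs'.out
  have h1 : Algebra.IsStandardSmoothOfRelativeDimension P.dimension Γ(S, U) Γ(X, V) :=
    ⟨⟨ι, σ, hι, hσ, P, rfl⟩⟩
  have h2 : (g.appLE U V e).hom.IsStandardSmoothOfRelativeDimension P.dimension := h1
  refine ⟨P.dimension, V, hx, ⟨fun y => ?_⟩⟩
  haveI : IsAffine V.toScheme := hV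
  have e' : (⊤ : V.toScheme.Opens) ≤ (V.ι ≫ g) ⁻¹ᵁ U := fun z _ => e z.2
  refine ⟨U, hU, ⊤, isAffineOpen_top _, trivial, e', ?_⟩
  have hiso : (V.ι ≫ g).appLE U ⊤ e' = g.appLE U V e ≫ V.topIso.inv := by
    rw [← Scheme.Hom.appLE_comp_appLE (f := V.ι) (g := g) (V := V) (W := ⊤) (e₁ := e)
      (e₂ := fun z _ => z.2)]
    simp [Scheme.Opens.topIso_inv]
    rfl
  rw [hiso]
  exact RingHom.isStandardSmoothOfRelativeDimension_respectsIso.1 _
    V.topIso.symm.commRingCatIsoToRingEquiv h2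

/-- The points of relative dimension `d`. -/
def dimLocus (g : X ⟶ S) (d : ℕ) : X.Opens :=
  sSup {V | SmoothOfRelativeDimension d (V.ι ≫ g)}

theorem smoothOfRelativeDimension_of_le (g : X ⟶ S) (d : ℕ) {V W : X.Opens} (h : W ≤ V)
    (hV : SmoothOfRelativeDimension d (V.ι ≫ g)) : SmoothOfRelativeDimension d (W.ι ≫ g) := by
  rw [← X.homOfLE_ι h, Category.assoc, ← Nat.zero_add d]
  haveI := hV
  exact smoothOfRelativeDimension_comp (n := 0) (m := d) (X.homOfLE h) (V.ι ≫ g)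

theorem smooth_restrict_dimLocus (g : X ⟶ S) (d : ℕ) {W : X.Opens} (hW : W ≤ dimLocus g d) :
    SmoothOfRelativeDimension d (W.ι ≫ g) := by
  let ι := {V : X.Opens // SmoothOfRelativeDimension d (V.ι ≫ g)}
  refine IsZariskiLocalAtSource.of_iSup_eq_top (P := @SmoothOfRelativeDimension d)
    (fun V : ι => W.ι ⁻¹ᵁ V.1) ?_ fun V => ?_
  · refine top_le_iff.1 fun x _ => ?_
    obtain ⟨V, hV, hxV⟩ := Opens.mem_sSup.1 (hW x.2)
    exact Opens.mem_iSup.2 ⟨⟨V, hV⟩, hxV⟩
  · haveI := V.2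
    rw [← Category.assoc]
    have hsub : Set.range ((W.ι ⁻¹ᵁ V.1).ι ≫ W.ι) ⊆ Set.range V.1.ι := by
      rintro _ ⟨z, rfl⟩
      exact Scheme.Opens.range_ι V.1 ▸ z.2
    let l := IsOpenImmersion.lift V.1.ι ((W.ι ⁻¹ᵁ V.1).ι ≫ W.ι) hsub
    have h1 : (W.ι ⁻¹ᵁ V.1).ι ≫ W.ι = l ≫ V.1.ι := (IsOpenImmersion.lift_fac _ _ _).symm
    haveI : IsOpenImmersion (l ≫ V.1.ι) := h1 ▸ inferInstance
    haveI : IsOpenImmersion l := IsOpenImmersion.of_comp l V.1.ι
    rw [h1, Category.assoc]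
    have := smoothOfRelativeDimension_comp (n := 0) (m := d) l (V.1.ι ≫ g)
    rwa [Nat.zero_add] at this

theorem dimLocus_disjoint (g : X ⟶ S) {d d' : ℕ} {x : X} (h : x ∈ dimLocus g d) (h' : x ∈ dimLocus g d') :
    d = d' := by
  let W := dimLocus g d ⊓ dimLocus g d'
  haveI := smooth_restrict_dimLocus g d (W := W) inf_le_left
  haveI := smooth_restrict_dimLocus g d' (W := W) inf_le_right
  have h1 := Groth.FibreDim.fibreDimAt_eq_of_smoothOfRelativeDimension d (W.ι ≫ g) ⟨x, h, h'⟩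
  have h2 := Groth.FibreDim.fibreDimAt_eq_of_smoothOfRelativeDimension d' (W.ι ≫ g) ⟨x, h, h'⟩
  exact_mod_cast h1.symm.trans h2

theorem exists_mem_dimLocus (g : X ⟶ S) [Smooth g] (x : X) : ∃ d, x ∈ dimLocus g d := by
  obtain ⟨d, V, hx, hV⟩ := exists_open_smoothOfRelativeDimension g x
  exact ⟨d, Opens.mem_sSup.2 ⟨V, hV, hx⟩⟩

theorem isClopen_dimLocus (g : X ⟶ S) [Smooth g] (d : ℕ) : IsClopen (dimLocus g d : Set X) := by
  refine ⟨⟨?_⟩, (dimLocus g d).2⟩
  have : (dimLocus g d : Set X)ᶜ = ⋃ d' : {m : ℕ // m ≠ d}, (dimLocus g d'.1 : Set X) := by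
    ext x
    rw [Set.mem_compl_iff, Set.mem_iUnion]
    refine ⟨fun hx => ?_, fun ⟨⟨d', hne⟩, hx'⟩ hx => hne (dimLocus_disjoint g hx' hx)⟩
    obtain ⟨d', hd'⟩ := exists_mem_dimLocus g x
    exact ⟨⟨d', fun h => hx (h ▸ hd')⟩, hd'⟩
  rw [this]
  exact isOpen_iUnion fun d' => (dimLocus g d'.1).2

/-- A finite étale multisection over a clopen piece of the base where points of a fixed relative
dimension exist. -/
theorem exists_section_piece {A : Type u} [CommRing A] (hA : {m : Ideal A | m.IsMaximal}.Finite)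
    {X : Scheme.{u}} {n : ℕ} (g : X ⟶ Spec (CommRingCat.of A)) [IsProper g] [Smooth g] (𝒰 : Atlas X n)
    (hgen : 𝒰.Generates g) (d : ℕ) (K : (Spec (CommRingCat.of A)).Opens)
    (hK : IsClopen (K : Set (Spec (CommRingCat.of A))))
    (hsurj : (K : Set (Spec (CommRingCat.of A))) ⊆ g '' dimLocus g d) :
    ∃ (S' : Scheme.{u}) (f : S' ⟶ Spec (CommRingCat.of A)) (σ : S' ⟶ X),
      IsFinite f ∧ Etale f ∧ Set.range f = K ∧ σ ≫ g = f := by
  obtain ⟨e, he, heK⟩ := PrimeSpectrum.exists_idempotent_basicOpen_eq_of_isClopen hK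
  let Ad := A ⧸ Ideal.span {1 - e}
  haveI : IsLocalization.Away e Ad := IsLocalization.Away.quotient_of_isIdempotentElem he
  let j := Spec.map (CommRingCat.ofHom (algebraMap A Ad))
  haveI : IsOpenImmersion j := IsOpenImmersion.of_isLocalization e
  haveI : IsClosedImmersion j := IsClosedImmersion.spec_of_surjective _ Ideal.Quotient.mk_surjective
  have hj : Set.range j = (K : Set (Spec (CommRingCat.of A))) :=
    (PrimeSpectrum.localization_away_comap_range Ad e).trans heK.symm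
  let O := dimLocus g d ⊓ g ⁻¹ᵁ K
  have hclosed : IsClosed (O : Set X) :=
    ((isClopen_dimLocus g d).inter (hK.preimage g.continuous)).1
  haveI : IsClosedImmersion O.ι :=
    IsClosedImmersion.of_isPreimmersion O.ι (by rw [Scheme.Opens.range_ι]; exact hclosed)
  let gd : O.toScheme ⟶ Spec (CommRingCat.of Ad) := IsOpenImmersion.lift j (O.ι ≫ g) (by
    rw [hj]
    rintro _ ⟨z, rfl⟩
    exact z.2.2)
  have hgd : gd ≫ j = O.ι ≫ g := IsOpenImmersion.lift_fac _ _ _
  haveI : SmoothOfRelativeDimension d (gd ≫ j) := hgd ▸ smooth_restrict_dimLocus g d inf_le_left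
  haveI : SmoothOfRelativeDimension d gd :=
    (smoothOfRelativeDimension_isStableUnderBaseChange d).of_isPullback
      (IsPullback.of_vert_isIso_mono (fst := gd) (snd := 𝟙 O.toScheme) (f := j) (g := gd ≫ j)
        ⟨by rw [Category.id_comp]⟩).flip inferInstance
  haveI : IsProper (gd ≫ j) := by rw [hgd]; infer_instance
  haveI : IsProper gd := IsProper.of_comp gd j
  haveI : AlgebraicGeometry.Surjective gd := ⟨fun p => by
    obtain ⟨x, hx, hgx⟩ := hsurj (show j p ∈ (K : Set _) from hj ▸ ⟨p, rfl⟩)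
    refine ⟨⟨x, hx, ?_⟩, j.isOpenEmbedding.injective ?_⟩
    · show g x ∈ K
      rw [hgx, ← SetLike.mem_coe, ← hj]
      exact ⟨p, rfl⟩
    · rw [← Scheme.Hom.comp_apply, hgd]
      exact hgx⟩
  haveI : Finite (MaximalSpectrum Ad) := by
    haveI := hA.to_subtype
    refine Finite.of_injective (β := {m : Ideal A // m ∈ {m : Ideal A | m.IsMaximal}})
      (fun m => ⟨m.asIdeal.comap (Ideal.Quotient.mk _), ?_⟩) fun m m' h => ?_
    · haveI := m.isMaximal
      exact Ideal.comap_isMaximal_of_surjective _ Ideal.Quotient.mk_surjective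
    · exact MaximalSpectrum.ext (Ideal.comap_injective_of_surjective _ Ideal.Quotient.mk_surjective
        (congrArg Subtype.val h))
  obtain ⟨S', f, σ, _, _, hs, hσ⟩ := exists_section (d := d) gd (𝒰.pb O.ι)
    (Atlas.pb_generates hgd.symm hgen)
  refine ⟨S', f ≫ j, σ ≫ O.ι, inferInstance, inferInstance, ?_, ?_⟩
  · rw [← hj]
    ext p
    exact ⟨fun ⟨z, hz⟩ => ⟨f z, hz⟩, fun ⟨q, hq⟩ => by
      obtain ⟨z, hz⟩ := f.surjective q
      exact ⟨z, by rw [Scheme.Hom.comp_apply, hz, hq]⟩⟩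
  · rw [Category.assoc, ← hgd, ← Category.assoc, hσ]

end Groth.RedSub2.EtSection
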