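import Groth.Agent.RedSub2.EtSection.Generic
import Mathlib

/-!
# Tangent spaces of smooth algebras over a field
-/

set_option autoImplicit false

universe u

open TensorProduct

namespace Groth.RedSub2.EtSection

variable {k C : Type u} [Field k] [CommRing C] [Algebra k C] {n : ℕ}

/-- A derivation at a point as a map into the dual numbers. -/
noncomputable def tanHom {K : Type u} [Field K] [Algebra k K] (ψ : C →ₐ[k] K) (D : C →ₗ[k] K)
    (hD : IsTan ψ D) : C →+* TrivSqZeroExt K K where
  toFun b := TrivSqZeroExt.inl (ψ b) + TrivSqZeroExt.inr (D b)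
  map_one' := by
    rw [map_one, tan_apply_one hD, TrivSqZeroExt.inr_zero, add_zero, TrivSqZeroExt.inl_one]
  map_mul' x y := by
    ext
    · simp
    · simp [hD x y]; ring
  map_zero' := by simp
  map_add' x y := by
    ext <;> simp

/-- Smooth algebras of relative dimension `d` have `d`-dimensional tangent spaces. -/
theorem tanDim_of_locally {t : Fin (n + 1) → C} (hgen : Algebra.adjoin k (Set.range t) = ⊤) {d : ℕ}
    (h : RingHom.Locally (RingHom.IsStandardSmoothOfRelativeDimension d) (algebraMap k C)) :
    TanDim k t d := by
  intro K _ _ ψ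
  obtain ⟨s, hs, hs'⟩ := h
  obtain ⟨g, hgs, hg⟩ : ∃ g ∈ s, ψ g ≠ 0 := by
    by_contra hall
    push Not at hall
    have h1 : Ideal.span s ≤ RingHom.ker ψ := Ideal.span_le.2 fun g hg => hall g hg
    rw [hs] at h1
    exact RingHom.ker_ne_top ψ (top_le_iff.1 h1)
  let Cg := Localization.Away g
  have hsm : Algebra.IsStandardSmoothOfRelativeDimension d k Cg := by
    have h1 := hs' g hgs
    rw [← IsScalarTower.algebraMap_eq k C Cg] at h1
    exact (RingHom.isStandardSmoothOfRelativeDimension_algebraMap d).1 h1
  have hu : ∀ y : Submonoid.powers g, IsUnit (ψ y) := fun y => by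
    obtain ⟨m, hm⟩ := y.2
    rw [← hm, map_pow]
    exact (isUnit_iff_ne_zero.2 hg).pow m
  let ψg : Cg →ₐ[k] K := IsLocalization.liftAlgHom (M := Submonoid.powers g) (f := ψ) hu
  have hψg : ∀ x, ψg (algebraMap C Cg x) = ψ x := fun x => by
    rw [IsLocalization.liftAlgHom_apply, IsLocalization.lift_eq]
    rfl
  have : Nontrivial Cg := ψg.toRingHom.domain_nontrivial
  have : Algebra.IsStandardSmooth k Cg :=
    Algebra.IsStandardSmoothOfRelativeDimension.isStandardSmooth d
  have hrk : Module.rank Cg Ω[Cg⁄k] = d :=
    Algebra.IsStandardSmoothOfRelativeDimension.rank_kaehlerDifferential (R := k) (S := Cg) d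
  let b := Module.finBasisOfFinrankEq Cg Ω[Cg⁄k] (Module.finrank_eq_of_rank_eq hrk)
  letI : Algebra Cg K := ψg.toRingHom.toAlgebra
  have : IsScalarTower k Cg K := IsScalarTower.of_algebraMap_eq fun r => (ψg.commutes r).symm
  let F : (Fin d → K) → Derivation k Cg K := fun a =>
    (b.constr k a).compDer (KaehlerDifferential.D k Cg)
  have hF : ∀ a y, F a y = ∑ l, algebraMap Cg K (b.repr (KaehlerDifferential.D k Cg y) l) * a l := by
    intro a y
    show b.constr k a (KaehlerDifferential.D k Cg y) = _
    rw [b.constr_apply_fintype k]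
    exact Finset.sum_congr rfl fun l _ => by rw [Module.Basis.equivFun_apply, Algebra.smul_def]
  let T : (Fin d → K) →ₗ[K] (Fin (n + 1) → K) :=
    { toFun := fun a j => F a (algebraMap C Cg (t j))
      map_add' := fun a a' => by
        funext j
        simp [hF, mul_add, Finset.sum_add_distrib]
      map_smul' := fun r a => by
        funext j
        simp only [hF, Pi.smul_apply, smul_eq_mul, RingHom.id_apply, Finset.mul_sum]
        exact Finset.sum_congr rfl fun _ _ => by ring }
  have hrange : LinearMap.range T = Tan t ψ := by
    refine le_antisymm ?_ ?_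
    · rintro _ ⟨a, rfl⟩
      refine ⟨(F a).toLinearMap ∘ₗ (IsScalarTower.toAlgHom k C Cg).toLinearMap, fun x y => ?_, fun j => rfl⟩
      show F a (algebraMap C Cg (x * y)) =
        ψ x * F a (algebraMap C Cg y) + ψ y * F a (algebraMap C Cg x)
      rw [map_mul, Derivation.leibniz, Algebra.smul_def, Algebra.smul_def, ← hψg x, ← hψg y]
      rfl
    · rintro v ⟨D, hD, hv⟩
      let L : Cg →+* TrivSqZeroExt K K := IsLocalization.lift (M := Submonoid.powers g)
        (g := tanHom ψ D hD) fun y => by
          rw [TrivSqZeroExt.isUnit_iff_isUnit_fst]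
          simpa [tanHom] using hu y
      have hfst : ∀ y, (L y).fst = ψg y := fun y => by
        have : (TrivSqZeroExt.fstHom K K K).toRingHom.comp L = ψg.toRingHom := by
          refine IsLocalization.ringHom_ext (Submonoid.powers g) (RingHom.ext fun x => ?_)
          simp only [RingHom.comp_apply, L, IsLocalization.lift_eq]
          exact (by simp [tanHom] : ((tanHom ψ D hD x).fst : K) = ψ x).trans (hψg x).symm
        exact RingHom.congr_fun this y
      have hbase : ∀ r : k, L (algebraMap k Cg r) = TrivSqZeroExt.inl (algebraMap k K r) := fun r => by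
        rw [IsScalarTower.algebraMap_apply k C Cg]
        simp only [L, IsLocalization.lift_eq]
        show TrivSqZeroExt.inl (ψ (algebraMap k C r)) + TrivSqZeroExt.inr (D (algebraMap k C r)) = _
        rw [AlgHom.commutes, show D (algebraMap k C r) = 0 by
          rw [Algebra.algebraMap_eq_smul_one, map_smul, tan_apply_one hD, smul_zero],
          TrivSqZeroExt.inr_zero, add_zero]
      let Dl : Cg →ₗ[k] K :=
        { toFun := fun y => (L y).snd
          map_add' := fun x y => by simp
          map_smul' := fun r y => by
            rw [Algebra.smul_def, map_mul, hbase]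
            simp [Algebra.smul_def] }
      let Dg : Derivation k Cg K := Derivation.mk' Dl fun x y => by
        show (L (x * y)).snd = x • (L y).snd + y • (L x).snd
        rw [map_mul, TrivSqZeroExt.snd_mul, hfst, hfst, Algebra.smul_def, Algebra.smul_def]
        simp only [smul_eq_mul, MulOpposite.smul_eq_mul_unop, MulOpposite.unop_op]
        show ψg x * _ + _ * ψg y = ψg x * _ + ψg y * _
        ring
      refine ⟨fun l => Dg.liftKaehlerDifferential (b l), funext fun j => ?_⟩
      rw [← hv j]
      show F _ (algebraMap C Cg (t j)) = D (t j)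
      have h1 : b.constr k (fun l => Dg.liftKaehlerDifferential (b l)) = Dg.liftKaehlerDifferential :=
        b.ext fun l => b.constr_basis k _ l
      show b.constr k _ _ = _
      rw [h1]
      refine (Derivation.liftKaehlerDifferential_comp_D Dg _).trans ?_
      show (L (algebraMap C Cg (t j))).snd = _
      simp [L, IsLocalization.lift_eq, tanHom]
  have hker : LinearMap.ker T = ⊥ := by
    rw [LinearMap.ker_eq_bot']
    intro a ha
    have h0 : ∀ x : C, F a (algebraMap C Cg x) = 0 := by
      intro x
      have hx : x ∈ Algebra.adjoin k (Set.range t) := hgen ▸ Algebra.mem_top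
      induction hx using Algebra.adjoin_induction with
      | mem x hx => obtain ⟨j, rfl⟩ := hx; exact congrFun ha j
      | algebraMap r => rw [← IsScalarTower.algebraMap_apply, Derivation.map_algebraMap]
      | add x y _ _ hx hy => rw [map_add, map_add, hx, hy, add_zero]
      | mul x y _ _ hx hy => rw [map_mul, Derivation.leibniz, hx, hy, smul_zero, smul_zero, add_zero]
    have hF0 : F a = 0 := by
      refine Derivation.ext fun y => ?_
      obtain ⟨⟨x, s⟩, hxs⟩ := IsLocalization.surj (Submonoid.powers g) y
      have h1 := congrArg (F a) hxs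
      simp only at h1
      rw [Derivation.leibniz, h0, h0, smul_zero, zero_add] at h1
      obtain ⟨u, hu'⟩ := IsLocalization.map_units Cg s
      rw [← hu', ← Units.smul_def, smul_eq_zero_iff_eq] at h1
      exact h1
    have h2 : b.constr k a = 0 := by
      refine LinearMap.ext_on (KaehlerDifferential.span_range_derivation k Cg) ?_
      rintro _ ⟨y, rfl⟩
      exact DFunLike.congr_fun hF0 y
    funext l
    rw [← b.constr_basis k a l, h2]
    rfl
  rw [← hrange, LinearMap.finrank_range_of_inj (LinearMap.ker_eq_bot.1 hker), Module.finrank_fin_fun]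

/-- The base change to a field of an algebra generated by `t` and smooth of relative dimension `d`. -/
theorem fibre_tanDim {A R : Type u} [CommRing A] [CommRing R] [Algebra A R] [Algebra A k]
    (t : Fin (n + 1) → R) (hgen : Algebra.adjoin A (Set.range t) = ⊤) (d : ℕ)
    (h : RingHom.Locally (RingHom.IsStandardSmoothOfRelativeDimension d) (algebraMap A R)) :
    Algebra.adjoin k (Set.range fun j => (1 : k) ⊗ₜ[A] t j) = ⊤ ∧
      RingHom.Locally (RingHom.IsStandardSmoothOfRelativeDimension d) (algebraMap k (k ⊗[A] R)) ∧
      TanDim k (fun j => (1 : k) ⊗ₜ[A] t j) d := by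
  have h1 : Algebra.adjoin k (Set.range fun j => (1 : k) ⊗ₜ[A] t j) = ⊤ := by
    refine top_le_iff.1 fun z _ => ?_
    induction z using TensorProduct.induction_on with
    | zero => exact zero_mem _
    | add x y hx hy => exact add_mem (hx trivial) (hy trivial)
    | tmul a r =>
      rw [show a ⊗ₜ[A] r = a • ((1 : k) ⊗ₜ[A] r) by rw [TensorProduct.smul_tmul', smul_eq_mul, mul_one]]
      refine Subalgebra.smul_mem _ ?_ a
      have hr : r ∈ Algebra.adjoin A (Set.range t) := hgen ▸ Algebra.mem_top
      clear * - hr
      induction hr using Algebra.adjoin_induction with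
      | mem x hx => obtain ⟨j, rfl⟩ := hx; exact Algebra.subset_adjoin ⟨j, rfl⟩
      | algebraMap a =>
        rw [Algebra.algebraMap_eq_smul_one, ← TensorProduct.smul_tmul, ← mul_one (a • (1 : k)),
          ← smul_eq_mul, ← TensorProduct.smul_tmul']
        exact Subalgebra.smul_mem _ (one_mem _) _
      | add x y _ _ hx hy => rw [TensorProduct.tmul_add]; exact add_mem hx hy
      | mul x y _ _ hx hy =>
        simpa using mul_mem hx hy
  have h2 := (RingHom.locally_isStableUnderBaseChange
      RingHom.isStandardSmoothOfRelativeDimension_respectsIso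
      (RingHom.isStandardSmoothOfRelativeDimension_isStableUnderBaseChange d)).tensorProduct k h
  exact ⟨h1, h2, tanDim_of_locally h1 h2⟩

end Groth.RedSub2.EtSection
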