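import Groth.Agent.RedSub2.EtSection.Spread
import Groth.Agent.RedSub2.EtSection.TanDim
import Groth.Agent.RedSub2.EtSection.Charts

/-!
# Good coefficients over the closed points of the base
-/

set_option autoImplicit false

universe u

open CategoryTheory AlgebraicGeometry TensorProduct

namespace Groth.RedSub2.EtSection

variable {A : Type u} [CommRing A] {X : Scheme.{u}} {n : ℕ} {d : ℕ}

/-- The coefficients `a` are good over the point `φ` of the base: the linear forms have no common zero,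
their zeros (omitting the first) have injective tangent maps, and such zeros exist. -/
structure Good (g : X ⟶ Spec (CommRingCat.of A)) (𝒰 : Atlas X n) {K : Type u} [Field K] (φ : A →+* K)
    (a : Fin (d + 1) → Fin (n + 1) → K) : Prop where
  empty : ∀ c (ψ : Γ(X, 𝒰.U c) →+* K), ψ.comp (sec g (𝒰.U c)) = φ →
    ¬ ∀ i, ∑ j, a i j * ψ (𝒰.t c j) = 0
  tangent : ∀ c (Δ : Γ(X, 𝒰.U c) →+* TrivSqZeroExt K K),
    Δ.comp (sec g (𝒰.U c)) = (TrivSqZeroExt.inlHom K K).comp φ →
    (∀ i : Fin d, ∑ j, TrivSqZeroExt.inl (a i.succ j) * Δ (𝒰.t c j) = 0) →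
    ∀ y, (Δ y).snd = 0
  nonempty : ∃ (c : Fin (n + 1)) (K' : Type u) (_ : Field K') (ι : K →+* K')
    (ψ : Γ(X, 𝒰.U c) →+* K'), ψ.comp (sec g (𝒰.U c)) = ι.comp φ ∧
      ∀ i : Fin d, ∑ j, ι (a i.succ j) * ψ (𝒰.t c j) = 0

theorem adjoin_range_t {g : X ⟶ Spec (CommRingCat.of A)} {𝒰 : Atlas X n} (h : 𝒰.Generates g) (c : Fin (n + 1)) :
    letI := (sec g (𝒰.U c)).toAlgebra
    Algebra.adjoin A (Set.range (𝒰.t c)) = ⊤ := by
  letI := (sec g (𝒰.U c)).toAlgebra
  refine top_le_iff.1 fun z _ => ?_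
  have hz : z ∈ Subring.closure (Set.range (sec g (𝒰.U c)) ∪ Set.range (𝒰.t c)) := (h c).ge trivial
  exact (Subring.closure_le (t := (Algebra.adjoin A (Set.range (𝒰.t c))).toSubring)).2 (Set.union_subset
    (by rintro _ ⟨a, rfl⟩; exact Subalgebra.algebraMap_mem _ a) Algebra.subset_adjoin) hz

/-- Evaluation of functions of the base. -/
theorem eval_sec_eq_zero_iff (g : X ⟶ Spec (CommRingCat.of A)) (V : X.Opens) (x : X) (hx : x ∈ V) (r : A) :
    X.evaluation V x hx (sec g V r) = 0 ↔ r ∈ (g x).asIdeal := by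
  rw [Scheme.evaluation_eq_zero_iff_notMem_basicOpen, basicOpen_sec]
  refine ⟨fun h => of_not_not fun hr => h ⟨hx, hr⟩, fun h h' => h'.2 h⟩

theorem locally_sec (g : X ⟶ Spec (CommRingCat.of A)) [SmoothOfRelativeDimension d g] {V : X.Opens}
    (hV : IsAffineOpen V) :
    RingHom.Locally (RingHom.IsStandardSmoothOfRelativeDimension d) (sec g V) := by
  have h := HasRingHomProperty.appLE (P := @SmoothOfRelativeDimension d) g inferInstance
    ⟨⊤, isAffineOpen_top _⟩ ⟨V, hV⟩ le_top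
  exact (RingHom.locally_respectsIso RingHom.isStandardSmoothOfRelativeDimension_respectsIso).2 _
    (Scheme.ΓSpecIso (CommRingCat.of A)).symm.commRingCatIsoToRingEquiv h

theorem exists_poly_good (g : X ⟶ Spec (CommRingCat.of A)) [SmoothOfRelativeDimension d g] [Surjective g]
    (𝒰 : Atlas X n) (hgen : 𝒰.Generates g) (m : Ideal A) [hm : m.IsMaximal] :
    ∃ P : MvPolynomial (Fin (d + 1) × Fin (n + 1)) A, MvPolynomial.map (Ideal.Quotient.mk m) P ≠ 0 ∧
      ∀ (K : Type u) [Field K] (φ : A →+* K) (a : Fin (d + 1) → Fin (n + 1) → K), m ≤ RingHom.ker φ →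
        MvPolynomial.eval₂ φ (fun p => a p.1 p.2) P ≠ 0 → Good g 𝒰 φ a := by
  classical
  let k := A ⧸ m
  letI : Field k := Ideal.Quotient.field m
  let R : Fin (n + 1) → Type u := fun c => Γ(X, 𝒰.U c)
  letI : ∀ c, Algebra A (R c) := fun c => (sec g (𝒰.U c)).toAlgebra
  let T : ∀ c, Fin (n + 1) → k ⊗[A] R c := fun c j => (1 : k) ⊗ₜ[A] 𝒰.t c j
  have hfib : ∀ c, Algebra.adjoin k (Set.range (T c)) = ⊤ ∧
      RingHom.Locally (RingHom.IsStandardSmoothOfRelativeDimension d) (algebraMap k (k ⊗[A] R c)) ∧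
      TanDim k (T c) d := fun c =>
    fibre_tanDim (R := R c) (𝒰.t c) (adjoin_range_t hgen c) d (locally_sec g (𝒰.affine c))
  have hT1 : ∀ c, T c c = 1 := fun c => by
    show (1 : k) ⊗ₜ[A] (𝒰.t c c : R c) = 1
    rw [𝒰.self]
    rfl
  choose PE hPE hPE' using fun c => exists_poly_empty (hT1 c) (hfib c).1 (hfib c).2.2
  choose PT hPT hPT' using fun c => exists_poly_tangent (hT1 c) (hfib c).1 (hfib c).2.2
  -- a point of the fibre
  obtain ⟨x, hx⟩ := g.surjective ⟨m, hm.isPrime⟩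
  obtain ⟨c₀, hc₀⟩ := 𝒰.exists_mem x
  let χ := (X.evaluation (𝒰.U c₀) x hc₀).hom
  have hχ : m ≤ RingHom.ker (χ.comp (sec g (𝒰.U c₀))) := fun r hr =>
    (eval_sec_eq_zero_iff g (𝒰.U c₀) x hc₀ r).2 (hx.symm ▸ hr)
  letI : Algebra k (X.residueField x) := (Ideal.Quotient.lift m (χ.comp (sec g (𝒰.U c₀))) hχ).toAlgebra
  letI : Algebra A (X.residueField x) := (χ.comp (sec g (𝒰.U c₀))).toAlgebra
  haveI : IsScalarTower A k (X.residueField x) := IsScalarTower.of_algebraMap_eq fun r => rfl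
  let ψ₀ : k ⊗[A] R c₀ →ₐ[k] X.residueField x := Algebra.TensorProduct.lift
    (Algebra.ofId k _) ({ χ with commutes' := fun r => rfl } : R c₀ →ₐ[A] X.residueField x)
    (fun _ _ => Commute.all _ _)
  obtain ⟨s, hs, hs'⟩ := (hfib c₀).2.1
  obtain ⟨g₀, hg₀s, hg₀⟩ : ∃ g₀ ∈ s, ψ₀ g₀ ≠ 0 := by
    by_contra hall
    push Not at hall
    have h1 : Ideal.span s ≤ RingHom.ker ψ₀ := Ideal.span_le.2 fun y hy => hall y hy
    rw [hs] at h1
    exact RingHom.ker_ne_top ψ₀ (top_le_iff.1 h1)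
  haveI : Algebra.IsStandardSmoothOfRelativeDimension d k (Localization.Away g₀) := by
    have h1 := hs' g₀ hg₀s
    rw [← IsScalarTower.algebraMap_eq k (k ⊗[A] R c₀) (Localization.Away g₀)] at h1
    exact (RingHom.isStandardSmoothOfRelativeDimension_algebraMap d).1 h1
  obtain ⟨PN, hPN, hPN'⟩ := exists_poly_nonempty (hT1 c₀) (hfib c₀).1 (hfib c₀).2.2 ψ₀ g₀ hg₀
  obtain ⟨P, hP⟩ := MvPolynomial.map_surjective (Ideal.Quotient.mk m) Ideal.Quotient.mk_surjective
    ((∏ c, PE c) * (∏ c, PT c) * PN)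
  refine ⟨P, hP ▸ mul_ne_zero (mul_ne_zero (Finset.prod_ne_zero_iff.2 fun c _ => hPE c)
    (Finset.prod_ne_zero_iff.2 fun c _ => hPT c)) hPN, fun K _ φ a hφ ha => ?_⟩
  letI : Algebra k K := (Ideal.Quotient.lift m φ hφ).toAlgebra
  letI : Algebra A K := φ.toAlgebra
  haveI : IsScalarTower A k K := IsScalarTower.of_algebraMap_eq fun r => rfl
  have haev : MvPolynomial.aeval (fun p : Fin (d + 1) × Fin (n + 1) => a p.1 p.2)
      ((∏ c, PE c) * (∏ c, PT c) * PN) ≠ 0 := by
    rw [← hP, MvPolynomial.aeval_def, MvPolynomial.eval₂_map]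
    exact ha
  rw [map_mul, map_mul, map_prod, map_prod, mul_ne_zero_iff, mul_ne_zero_iff,
    Finset.prod_ne_zero_iff, Finset.prod_ne_zero_iff] at haev
  refine ⟨fun c ψ hψ h => ?_, fun c Δ hΔ h y => ?_, ?_⟩
  · let ψA : R c →ₐ[A] K := { ψ with commutes' := fun r => RingHom.congr_fun hψ r }
    let ψk : k ⊗[A] R c →ₐ[k] K :=
      Algebra.TensorProduct.lift (Algebra.ofId k K) ψA (fun _ _ => Commute.all _ _)
    refine hPE' c K a (haev.1.1 c (Finset.mem_univ c)) ψk fun i => ?_
    rw [← h i]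
    exact Finset.sum_congr rfl fun j _ => by simp [ψk, ψA, T]
  · let ψA : R c →ₐ[A] K :=
      { (TrivSqZeroExt.fstHom K K K).toRingHom.comp Δ with
        commutes' := fun r => congrArg TrivSqZeroExt.fst (RingHom.congr_fun hΔ r) }
    let ψk : k ⊗[A] R c →ₐ[k] K :=
      Algebra.TensorProduct.lift (Algebra.ofId k K) ψA (fun _ _ => Commute.all _ _)
    let DA : R c →ₗ[A] K :=
      { toFun := fun z => (Δ z).snd
        map_add' := fun z z' => by simp
        map_smul' := fun r z => by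
          show (Δ (sec g (𝒰.U c) r * z)).snd = φ r * (Δ z).snd
          rw [map_mul, show Δ (sec g (𝒰.U c) r) = TrivSqZeroExt.inl (φ r) from RingHom.congr_fun hΔ r]
          simp }
    let Dk : k ⊗[A] R c →ₗ[k] K := DA.liftBaseChange k
    have hψk : ∀ (r : k) (z : R c), ψk (r ⊗ₜ z) = algebraMap k K r * (Δ z).fst := fun r z => by
      simp [ψk, ψA]
    have hDk : ∀ (r : k) (z : R c), Dk (r ⊗ₜ z) = algebraMap k K r * (Δ z).snd := fun r z => by
      simp [Dk, DA, Algebra.smul_def]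
    have hD : IsTan ψk Dk := by
      intro u v
      induction u using TensorProduct.induction_on with
      | zero => simp
      | add u u' hu hu' => simp only [add_mul, map_add, hu, hu']; ring
      | tmul r z =>
        induction v using TensorProduct.induction_on with
        | zero => simp
        | add v v' hv hv' => simp only [mul_add, map_add, hv, hv']; ring
        | tmul r' z' =>
          rw [Algebra.TensorProduct.tmul_mul_tmul, hψk, hψk, hDk, hDk, hDk, map_mul, map_mul,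
            TrivSqZeroExt.snd_mul]
          simp only [smul_eq_mul, MulOpposite.smul_eq_mul_unop, MulOpposite.unop_op]
          ring
    have h1 : ∀ i : Fin d, ∑ j, a i.succ j * (Δ (𝒰.t c j)).fst = 0 := fun i => by
      have := congrArg (TrivSqZeroExt.fstHom K K K) (h i)
      simpa using this
    have h2 : ∀ i : Fin d, ∑ j, a i.succ j * (Δ (𝒰.t c j)).snd = 0 := fun i => by
      have := congrArg (TrivSqZeroExt.sndHom K K) (h i)
      simpa using this
    have h3 := hPT' c K a (haev.1.2 c (Finset.mem_univ c)) ψk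
      (fun i => by rw [← h1 i]; exact Finset.sum_congr rfl fun j _ => by simp [T, hψk])
      (fun j => Dk (T c j)) ⟨Dk, hD, fun j => rfl⟩
      (fun i => by rw [← h2 i]; exact Finset.sum_congr rfl fun j _ => by simp [T, hDk])
    have hy : y ∈ Algebra.adjoin A (Set.range (𝒰.t c) : Set (R c)) := (adjoin_range_t hgen c).ge trivial
    induction hy using Algebra.adjoin_induction with
    | mem z hz =>
      obtain ⟨j, rfl⟩ := hz
      simpa [T, hDk] using congrFun h3 j
    | algebraMap r =>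
      show (Δ (sec g (𝒰.U c) r)).snd = 0
      rw [show Δ (sec g (𝒰.U c) r) = TrivSqZeroExt.inl (φ r) from RingHom.congr_fun hΔ r]
      simp
    | add z z' _ _ hz hz' => simp [hz, hz']
    | mul z z' _ _ hz hz' => simp [TrivSqZeroExt.snd_mul, hz, hz']
  · obtain ⟨K', _, _, ι, ψ, hψ⟩ := hPN' K a haev.2
    refine ⟨c₀, K', inferInstance, ι.toRingHom,
      ψ.toRingHom.comp (Algebra.TensorProduct.includeRight : R c₀ →ₐ[A] k ⊗[A] R c₀).toRingHom,
      RingHom.ext fun r => ?_, fun i => hψ i⟩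
    show ψ (Algebra.TensorProduct.includeRight (algebraMap A (R c₀) r)) = ι (φ r)
    rw [AlgHom.commutes, IsScalarTower.algebraMap_apply A k (k ⊗[A] R c₀), AlgHom.commutes]
    exact (ι.commutes (algebraMap A k r)).symm

end Groth.RedSub2.EtSection
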