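import Groth.Agent.RedSub2.EtSection.Polys

/-!
# The linear section of a scheme in projective space as a scheme finite over the base

For linear forms `b i` on a proper scheme with coordinates: the open where `b 0` does not vanish,
the functions `b i / b 0` there, and their zero scheme.
-/

set_option autoImplicit false

universe u

open CategoryTheory CategoryTheory.Limits AlgebraicGeometry TopologicalSpace Opposite

namespace Groth.RedSub2.EtSection

variable {B : Type u} [CommRing B] {X : Scheme.{u}} {n : ℕ} (g : X ⟶ Spec (CommRingCat.of B))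
  (𝒰 : Atlas X n)

theorem openOf_eq_iSup (b : Fin (n + 1) → B) :
    𝒰.openOf g b ≤ ⨆ c, X.basicOpen (𝒰.form g b c) := le_rfl

/-- The normalised coordinates on the open where a linear form does not vanish. -/
theorem exists_normalized (b : Fin (n + 1) → B) :
    ∃ s : Fin (n + 1) → Γ(X, 𝒰.openOf g b),
      (∀ c j (h : X.basicOpen (𝒰.form g b c) ≤ 𝒰.openOf g b),
        rr h (s j) * rr (X.basicOpen_le _) (𝒰.form g b c) = rr (X.basicOpen_le _) (𝒰.t c j)) ∧
      (∑ j, sec g (𝒰.openOf g b) (b j) * s j = 1) ∧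
      (∀ c, X.basicOpen (s c) = X.basicOpen (𝒰.form g b c)) ∧
      IsAffineOpen (𝒰.openOf g b) := by
  let W := fun c => X.basicOpen (𝒰.form g b c)
  have hu : ∀ (c : Fin (n + 1)) (V : X.Opens) (h : V ≤ W c),
      IsUnit (rr (h.trans (X.basicOpen_le _)) (𝒰.form g b c)) := fun c V h =>
    isUnit_rr_of_le _ _ h
  have hW : ∀ c, W c ≤ 𝒰.openOf g b := fun c => le_iSup (fun c => X.basicOpen (𝒰.form g b c)) c
  have hsol : ∀ c j, ∃ y : Γ(X, W c),
      y * rr (X.basicOpen_le _) (𝒰.form g b c) = rr (X.basicOpen_le _) (𝒰.t c j) := fun c j => by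
    obtain ⟨v, hv⟩ := hu c (W c) le_rfl
    exact ⟨(rr (X.basicOpen_le (𝒰.form g b c)) (𝒰.t c j) : Γ(X, W c)) * ↑v⁻¹, by rw [← hv, mul_assoc, Units.inv_mul, mul_one]⟩
  choose sp hsp using hsol
  have hcompat : ∀ j, TopCat.Presheaf.IsCompatible X.presheaf W (fun c => sp c j) := by
    intro j c l
    show rr (inf_le_left : W c ⊓ W l ≤ W c) (sp c j) = rr (inf_le_right : W c ⊓ W l ≤ W l) (sp l j)
    have hc : W c ⊓ W l ≤ 𝒰.U c := inf_le_left.trans (X.basicOpen_le _)
    have hl : W c ⊓ W l ≤ 𝒰.U l := inf_le_right.trans (X.basicOpen_le _)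
    have h1 := congrArg (rr (inf_le_left : W c ⊓ W l ≤ W c)) (hsp c j)
    have h2 := congrArg (rr (inf_le_right : W c ⊓ W l ≤ W l)) (hsp l j)
    simp only [map_mul, rr_rr] at h1 h2
    refine (hu c (W c ⊓ W l) inf_le_left).mul_right_cancel ?_
    rw [h1, 𝒰.form_transition g b c l _ hc hl, 𝒰.transition c l j _ hc hl,
      mul_left_comm, h2]
  have hglue : ∀ j, ∃ y : Γ(X, 𝒰.openOf g b), ∀ c, rr (hW c) y = sp c j := fun j => by
    obtain ⟨y, hy, -⟩ := X.sheaf.existsUnique_gluing' W _ (fun c => homOfLE (hW c))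
      (openOf_eq_iSup g 𝒰 b) (fun c => sp c j) (hcompat j)
    exact ⟨y, hy⟩
  choose s hs using hglue
  have hs' : ∀ c j (h : W c ≤ 𝒰.openOf g b),
      rr h (s j) * rr (X.basicOpen_le _) (𝒰.form g b c) = rr (X.basicOpen_le _) (𝒰.t c j) :=
    fun c j h => by rw [hs j c, hsp c j]
  have hone : ∑ j, sec g (𝒰.openOf g b) (b j) * s j = 1 := by
    refine X.sheaf.eq_of_locally_eq' W _ (fun c => homOfLE (hW c)) (openOf_eq_iSup g 𝒰 b) _ _ fun c => ?_
    show rr (hW c) _ = rr (hW c) 1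
    refine (hu c (W c) le_rfl).mul_right_cancel ?_
    rw [map_one, one_mul, map_sum, Finset.sum_mul]
    refine Eq.trans ?_ (map_sum (rr (X.basicOpen_le (𝒰.form g b c)))
      (fun j => sec g (𝒰.U c) (b j) * 𝒰.t c j) Finset.univ).symm
    exact Finset.sum_congr rfl fun j _ => by rw [map_mul, map_mul, mul_assoc, hs', rr_sec, rr_sec]
  have hbasic : ∀ c, X.basicOpen (s c) = W c := by
    intro c
    refine le_antisymm (fun x hx => ?_) ?_
    · obtain ⟨l, hl⟩ := Opens.mem_iSup.1 (X.basicOpen_le (s c) hx)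
      have h1 := congrArg X.basicOpen (hs' l c (hW l))
      rw [X.basicOpen_mul, basicOpen_rr, basicOpen_rr, basicOpen_rr] at h1
      have h2 : x ∈ W l ⊓ X.basicOpen (𝒰.t l c) := h1.le ⟨⟨hl, hx⟩, hl, hl⟩
      have h3 : x ∈ 𝒰.U c := ((𝒰.inf l c).ge h2.2).2
      exact (𝒰.openOf_inf g b c).le ⟨hW l hl, h3⟩
    · have h1 := hs' c c (hW c)
      rw [𝒰.self, map_one] at h1
      have h2 := X.basicOpen_of_isUnit (IsUnit.of_mul_eq_one _ h1)
      rw [basicOpen_rr] at h2
      exact h2.ge.trans inf_le_right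
  refine ⟨s, hs', hone, hbasic, isAffineOpen_of_isAffineOpen_basicOpen _ (Set.range s) ?_ ?_⟩
  · rw [Ideal.eq_top_iff_one, ← hone]
    exact sum_mem fun j _ => Ideal.mul_mem_left _ _ (Ideal.subset_span ⟨j, rfl⟩)
  · rintro _ ⟨c, rfl⟩
    rw [hbasic c]
    exact (𝒰.affine c).basicOpen _

/-- A closed subset of a scheme proper over `B` with no point over the closed points is empty. -/
theorem eq_empty_of_proper [IsProper g] (Z : Set X) (hZ : IsClosed Z)
    (h : ∀ x ∈ Z, ¬ (g x).asIdeal.IsMaximal) : Z = ∅ := by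
  by_contra hne
  obtain ⟨x, hx⟩ := Set.nonempty_iff_ne_empty.2 hne
  obtain ⟨M, hM, hle⟩ := Ideal.exists_le_maximal (g x).asIdeal (g x).isPrime.ne_top
  have hc := g.isClosedMap Z hZ
  have hsp : (g x) ⤳ (⟨M, hM.isPrime⟩ : PrimeSpectrum B) := (PrimeSpectrum.le_iff_specializes _ _).1 hle
  obtain ⟨y, hy, hgy⟩ := hsp.mem_closed hc ⟨x, hx, rfl⟩
  exact h y hy (hgy ▸ hM)

end Groth.RedSub2.EtSection
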