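import Groth.Agent.RedSub2.EtSection.Criterion
import Groth.Agent.RedSub2.EtSection.Generic

/-!
# Good coefficients form a nonempty open set

The generic properties of linear sections hold outside the zero set of a nonzero polynomial in the
coefficients.
-/

set_option autoImplicit false

universe u

open TensorProduct

namespace Groth.RedSub2.EtSection

variable {k B : Type u} [Field k] [CommRing B] [Algebra k B] {n : ℕ}

/-- A property without generic counterexamples fails only on a hypersurface. -/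
theorem exists_poly_of_generic {σ : Type} {R : Type u} [CommRing R] (g : MvPolynomial σ k →+* R)
    (h : ∀ (K : Type u) [Field K] (φ : R →+* K), ¬ Function.Injective (φ.comp g)) :
    ∃ P, P ≠ 0 ∧ g P = 0 := by
  let M : Submonoid R := (nonZeroDivisors (MvPolynomial σ k)).map g
  by_cases h0 : (0 : R) ∈ M
  · obtain ⟨P, hP, hP0⟩ := Submonoid.mem_map.1 h0
    exact ⟨P, nonZeroDivisors.ne_zero hP, hP0⟩
  · have hd : Disjoint ((⊥ : Ideal R) : Set R) (M : Set R) := by
      rw [Set.disjoint_left]
      intro x hx hxM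
      rw [SetLike.mem_coe, Ideal.mem_bot] at hx
      exact h0 (hx ▸ hxM)
    obtain ⟨Q, hQ, -, hQM⟩ := Ideal.exists_le_prime_disjoint ⊥ M hd
    exfalso
    refine h (FractionRing (R ⧸ Q)) ((algebraMap (R ⧸ Q) (FractionRing (R ⧸ Q))).comp (Ideal.Quotient.mk Q))
      ((injective_iff_map_eq_zero _).2 fun P hP => ?_)
    by_contra hP0
    have hP' : Ideal.Quotient.mk Q (g P) = 0 :=
      IsFractionRing.injective (R ⧸ Q) (FractionRing (R ⧸ Q)) (by rw [map_zero]; exact hP)
    exact Set.disjoint_left.1 hQM (Ideal.Quotient.eq_zero_iff_mem.1 hP')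
      (Submonoid.mem_map_of_mem g (mem_nonZeroDivisors_of_ne_zero hP0))

/-- The linear forms with universal coefficients. -/
noncomputable def univForm {A : Type u} [CommRing A] {d : ℕ} (t : Fin (n + 1) → A) (i : Fin (d + 1)) :
    MvPolynomial (Fin (d + 1) × Fin (n + 1)) A :=
  ∑ j, MvPolynomial.X (i, j) * MvPolynomial.C (t j)

theorem exists_poly_empty {t : Fin (n + 1) → B} {c : Fin (n + 1)} (hc : t c = 1)
    (hgen : Algebra.adjoin k (Set.range t) = ⊤) {d : ℕ} (hdim : TanDim k t d) :
    ∃ P : MvPolynomial (Fin (d + 1) × Fin (n + 1)) k, P ≠ 0 ∧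
      ∀ (K : Type u) [Field K] [Algebra k K] (a : Fin (d + 1) → Fin (n + 1) → K),
        MvPolynomial.aeval (fun p => a p.1 p.2) P ≠ 0 →
        ∀ ψ : B →ₐ[k] K, ¬ ∀ i, ∑ j, a i j * ψ (t j) = 0 := by
  let σ := Fin (d + 1) × Fin (n + 1)
  let I : Ideal (MvPolynomial σ B) := Ideal.span (Set.range (univForm t))
  let g : MvPolynomial σ k →+* MvPolynomial σ B ⧸ I :=
    (Ideal.Quotient.mk I).comp (MvPolynomial.map (algebraMap k B))
  obtain ⟨P, hP, hgP⟩ := exists_poly_of_generic g (fun K _ φ hinj => by
    let φ' : MvPolynomial σ B →+* K := φ.comp (Ideal.Quotient.mk I)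
    letI : Algebra k K := ((φ'.comp MvPolynomial.C).comp (algebraMap k B)).toAlgebra
    let ψ : B →ₐ[k] K := { φ'.comp MvPolynomial.C with commutes' := fun r => rfl }
    refine generic_empty hc hgen hdim (fun i j => φ' (MvPolynomial.X (i, j))) ?_ ψ fun i => ?_
    · rw [algebraicIndependent_iff_injective_aeval]
      convert hinj using 1
      rw [← AlgHom.coe_toRingHom]
      congr 1
      refine MvPolynomial.ringHom_ext (fun r => ?_) fun p => ?_
      · simp [g, φ', RingHom.algebraMap_toAlgebra]
      · simp [g, φ']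
    · have : φ' (univForm t i) = 0 := by
        show φ (Ideal.Quotient.mk I _) = 0
        rw [Ideal.Quotient.eq_zero_iff_mem.2 (Ideal.subset_span (show univForm t i ∈ Set.range (univForm t) from ⟨i, rfl⟩)),
          map_zero]
      rw [univForm, map_sum] at this
      rw [← this]
      exact Finset.sum_congr rfl fun j _ => by rw [map_mul]; rfl)
  refine ⟨P, hP, fun K _ _ a ha ψ h => ha ?_⟩
  let φ : MvPolynomial σ B ⧸ I →+* K := Ideal.Quotient.lift I
    (MvPolynomial.eval₂Hom ψ.toRingHom fun p => a p.1 p.2) (fun x hx => by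
      induction hx using Submodule.span_induction with
      | mem x hx =>
        obtain ⟨i, rfl⟩ := hx
        simp only [univForm, map_sum, map_mul, MvPolynomial.eval₂Hom_X', MvPolynomial.eval₂Hom_C]
        exact h i
      | zero => simp
      | add x y _ _ hx hy => simp only [map_add, hx, hy, add_zero]
      | smul r x _ hx => simp only [smul_eq_mul, map_mul, hx, mul_zero])
  have : φ.comp g = (MvPolynomial.aeval fun p => a p.1 p.2).toRingHom := by
    refine MvPolynomial.ringHom_ext (fun r => ?_) fun p => ?_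
    · simp [φ, g]
    · simp [φ, g]
  have h2 := RingHom.congr_fun this P
  rw [RingHom.comp_apply, hgP, map_zero] at h2
  exact h2.symm

theorem exists_poly_tangent {t : Fin (n + 1) → B} {c : Fin (n + 1)} (hc : t c = 1)
    (hgen : Algebra.adjoin k (Set.range t) = ⊤) {d : ℕ} (hdim : TanDim k t d) :
    ∃ P : MvPolynomial (Fin (d + 1) × Fin (n + 1)) k, P ≠ 0 ∧
      ∀ (K : Type u) [Field K] [Algebra k K] (a : Fin (d + 1) → Fin (n + 1) → K),
        MvPolynomial.aeval (fun p => a p.1 p.2) P ≠ 0 →
        ∀ ψ : B →ₐ[k] K, (∀ i : Fin d, ∑ j, a i.succ j * ψ (t j) = 0) →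
          ∀ v ∈ Tan t ψ, (∀ i : Fin d, ∑ j, a i.succ j * v j = 0) → v = 0 := by
  classical
  let σ := Fin (d + 1) × Fin (n + 1)
  let W := SymmetricAlgebra B Ω[B⁄k]
  let ι : B → W := fun b => SymmetricAlgebra.ι B Ω[B⁄k] (KaehlerDifferential.D k B b)
  suffices H : ∀ j₀ : Fin (n + 1), ∃ P : MvPolynomial σ k, P ≠ 0 ∧
      ∀ (K : Type u) [Field K] [Algebra k K] (a : Fin (d + 1) → Fin (n + 1) → K),
        MvPolynomial.aeval (fun p => a p.1 p.2) P ≠ 0 →
        ∀ ψ : B →ₐ[k] K, (∀ i : Fin d, ∑ j, a i.succ j * ψ (t j) = 0) →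
          ∀ v ∈ Tan t ψ, (∀ i : Fin d, ∑ j, a i.succ j * v j = 0) → v j₀ = 0 by
    choose P hP hP' using H
    refine ⟨∏ j, P j, Finset.prod_ne_zero_iff.2 fun j _ => hP j, fun K _ _ a ha ψ h v hv hv0 => ?_⟩
    rw [map_prod, Finset.prod_ne_zero_iff] at ha
    exact funext fun j => hP' j K a (ha j (Finset.mem_univ j)) ψ h v hv hv0
  intro j₀
  let tW : Fin (n + 1) → W := fun j => algebraMap B W (t j)
  let dW : Fin (n + 1) → W := fun j => ι (t j)
  let I : Ideal (MvPolynomial σ W) := Ideal.span
    (Set.range (fun i : Fin d => univForm tW i.succ) ∪ Set.range (fun i : Fin d => univForm dW i.succ) ∪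
      {MvPolynomial.C (dW j₀) - 1})
  let g : MvPolynomial σ k →+* MvPolynomial σ W ⧸ I :=
    (Ideal.Quotient.mk I).comp (MvPolynomial.map ((algebraMap B W).comp (algebraMap k B)))
  obtain ⟨P, hP, hgP⟩ := exists_poly_of_generic (R := MvPolynomial σ W ⧸ I) g (fun K _ φ hinj => by
    let φ' : MvPolynomial σ W →+* K := φ.comp (Ideal.Quotient.mk I)
    let φB : B →+* K := (φ'.comp MvPolynomial.C).comp (algebraMap B W)
    letI : Algebra k K := (φB.comp (algebraMap k B)).toAlgebra
    let ψ : B →ₐ[k] K := { φB with commutes' := fun r => rfl }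
    let D : B →ₗ[k] K :=
      { toFun := fun b => φ' (MvPolynomial.C (ι b))
        map_add' := fun x y => by simp [ι]
        map_smul' := fun r x => by
          show φ' (MvPolynomial.C (ι (r • x))) = φB (algebraMap k B r) * φ' (MvPolynomial.C (ι x))
          simp only [ι]
          rw [Derivation.map_smul, ← algebraMap_smul B r, map_smul, Algebra.smul_def, map_mul, map_mul]
          rfl }
    have hunf : ∀ (t' : Fin (n + 1) → W) (i : Fin (d + 1)),
        φ' (univForm t' i) = ∑ j, φ' (MvPolynomial.X (i, j)) * φ' (MvPolynomial.C (t' j)) := fun t' i => by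
      refine (map_sum φ' (fun j => MvPolynomial.X (i, j) * MvPolynomial.C (t' j)) Finset.univ).trans ?_
      exact Finset.sum_congr rfl fun j _ => map_mul φ' _ _
    have hI : ∀ x ∈ (Set.range (fun i : Fin d => univForm tW i.succ) ∪
        Set.range (fun i : Fin d => univForm dW i.succ) ∪
        {MvPolynomial.C (dW j₀) - 1} : Set (MvPolynomial σ W)), φ' x = 0 := fun x hx => by
      show φ (Ideal.Quotient.mk I x) = 0
      rw [Ideal.Quotient.eq_zero_iff_mem.2 (Ideal.subset_span hx), map_zero]
    have hD : IsTan ψ D := fun x y => by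
      show φ' (MvPolynomial.C (ι (x * y))) = φB x * φ' (MvPolynomial.C (ι y)) + φB y * φ' (MvPolynomial.C (ι x))
      simp only [ι]
      rw [Derivation.leibniz, map_add, map_smul, map_smul, Algebra.smul_def, Algebra.smul_def,
        map_add, map_mul, map_mul, map_add, map_mul, map_mul]
      rfl
    have h1 := generic_tangent hc hgen hdim (fun i j => φ' (MvPolynomial.X (i, j))) (by
      rw [algebraicIndependent_iff_injective_aeval]
      convert hinj using 1
      rw [← AlgHom.coe_toRingHom]
      congr 1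
      refine MvPolynomial.ringHom_ext (fun r => ?_) fun p => ?_
      · simp [g, φ', φB, RingHom.algebraMap_toAlgebra]
      · simp [g, φ']) ψ (fun i => by
        have := hI _ (Or.inl (Or.inl ⟨i, rfl⟩))
        exact (hunf tW i.succ).symm.trans this)
      (fun j => D (t j)) ⟨D, hD, fun j => rfl⟩ (fun i => by
        have := hI _ (Or.inl (Or.inr ⟨i, rfl⟩))
        exact (hunf dW i.succ).symm.trans this)
    have h2 := hI _ (Or.inr rfl)
    rw [map_sub, map_one, sub_eq_zero] at h2
    exact one_ne_zero (h2.symm.trans (congrFun h1 j₀)))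
  refine ⟨P, hP, fun K _ _ a ha ψ h v hv hv0 => by_contra fun hj => ha ?_⟩
  obtain ⟨D, hD, hDv⟩ := hv
  letI : Algebra B K := ψ.toRingHom.toAlgebra
  have : IsScalarTower k B K := IsScalarTower.of_algebraMap_eq fun r => (ψ.commutes r).symm
  let D' : Derivation k B K := Derivation.mk' ((v j₀)⁻¹ • D) fun x y => by
    simp only [LinearMap.smul_apply, hD x y, smul_eq_mul, Algebra.smul_def, RingHom.algebraMap_toAlgebra]
    show _ = ψ x * _ + ψ y * _
    ring
  let ev : W →ₐ[B] K := SymmetricAlgebra.lift D'.liftKaehlerDifferential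
  have hev : ∀ b, ev (ι b) = (v j₀)⁻¹ * D b := fun b => by
    simp only [ev, ι]
    rw [SymmetricAlgebra.lift_ι_apply, Derivation.liftKaehlerDifferential_comp_D]
    rfl
  let φ : MvPolynomial σ W ⧸ I →+* K := Ideal.Quotient.lift I
    (MvPolynomial.eval₂Hom ev.toRingHom fun p => a p.1 p.2) (fun x hx => by
      induction hx using Submodule.span_induction with
      | mem x hx =>
        rcases hx with (⟨i, rfl⟩ | ⟨i, rfl⟩) | hx
        · simp only [univForm, map_sum, map_mul, MvPolynomial.eval₂Hom_X', MvPolynomial.eval₂Hom_C]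
          rw [← h i]
          exact Finset.sum_congr rfl fun j _ => congrArg (_ * ·) (ev.commutes (t j))
        · simp only [univForm, map_sum, map_mul, MvPolynomial.eval₂Hom_X', MvPolynomial.eval₂Hom_C]
          have h0 : (v j₀)⁻¹ * ∑ j, a i.succ j * v j = 0 := by rw [hv0 i, mul_zero]
          rw [← h0, Finset.mul_sum]
          exact Finset.sum_congr rfl fun j _ => by
            show _ * ev (ι (t j)) = _
            rw [hev, hDv]; ring
        · rw [Set.mem_singleton_iff.1 hx, map_sub, map_one, MvPolynomial.eval₂Hom_C]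
          show ev (ι (t j₀)) - 1 = 0
          rw [hev, hDv, inv_mul_cancel₀ hj, sub_self]
      | zero => simp
      | add x y _ _ hx hy => simp only [map_add, hx, hy, add_zero]
      | smul r x _ hx => simp only [smul_eq_mul, map_mul, hx, mul_zero])
  have : φ.comp g = (MvPolynomial.aeval fun p => a p.1 p.2).toRingHom := by
    refine MvPolynomial.ringHom_ext (fun r => ?_) fun p => ?_
    · simp only [φ, g, RingHom.comp_apply, MvPolynomial.map_C, Ideal.Quotient.lift_mk,
        MvPolynomial.eval₂Hom_C, AlgHom.toRingHom_eq_coe, RingHom.coe_coe, MvPolynomial.aeval_C]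
      show ev (algebraMap B W (algebraMap k B r)) = _
      rw [ev.commutes, RingHom.algebraMap_toAlgebra]
      exact ψ.commutes r
    · simp [φ, g]
  have h2 := RingHom.congr_fun this P
  rw [RingHom.comp_apply, hgP, map_zero] at h2
  exact h2.symm

/-- Values at a point where the zero scheme is étale over the coefficients. -/
theorem exists_etale_family {t : Fin (n + 1) → B} {c : Fin (n + 1)} (hc : t c = 1)
    (hgen : Algebra.adjoin k (Set.range t) = ⊤) {d : ℕ} (hdim : TanDim k t d)
    {K₀ : Type u} [Field K₀] [Algebra k K₀] (ψ₀ : B →ₐ[k] K₀) (g : B) (hg : ψ₀ g ≠ 0)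
    [Algebra.IsStandardSmoothOfRelativeDimension d k (Localization.Away g)] :
    ∃ (C : Type u) (_ : CommRing C) (_ : Algebra (MvPolynomial (Fin (d + 1) × Fin (n + 1)) k) C)
      (ψ : B →+* C), Algebra.Etale (MvPolynomial (Fin (d + 1) × Fin (n + 1)) k) C ∧ Nontrivial C ∧
      (∀ r : k, ψ (algebraMap k B r) =
        algebraMap (MvPolynomial (Fin (d + 1) × Fin (n + 1)) k) C (MvPolynomial.C r)) ∧
      ∀ i : Fin d, ∑ j, algebraMap (MvPolynomial (Fin (d + 1) × Fin (n + 1)) k) C
        (MvPolynomial.X (i.succ, j)) * ψ (t j) = 0 := by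
  classical
  obtain ⟨a₀, ha₀, htan⟩ := exists_special hc hdim ψ₀
  let σ := Fin (d + 1) × Fin (n + 1)
  let M := MvPolynomial σ k
  let Bg := Localization.Away g
  let P' := M ⊗[k] Bg
  let ψg : Bg →ₐ[k] K₀ := IsLocalization.liftAlgHom (M := Submonoid.powers g) (f := ψ₀)
    (fun y => by
      obtain ⟨m, hm⟩ := y.2
      rw [← hm, map_pow]
      exact (isUnit_iff_ne_zero.2 hg).pow m)
  letI : Algebra M K₀ := (MvPolynomial.aeval fun p : σ => a₀ p.1 p.2).toRingHom.toAlgebra
  have hMk : IsScalarTower k M K₀ :=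
    IsScalarTower.of_algebraMap_eq fun r => ((MvPolynomial.aeval fun p : σ => a₀ p.1 p.2).commutes r).symm
  let π : P' →ₐ[M] K₀ := Algebra.TensorProduct.lift (Algebra.ofId M K₀) ψg (fun _ _ => Commute.all _ _)
  letI : Algebra P' K₀ := π.toRingHom.toAlgebra
  have : IsScalarTower M P' K₀ := IsScalarTower.of_algebraMap_eq fun r => (π.commutes r).symm
  have : Algebra.IsStandardSmoothOfRelativeDimension d M P' := inferInstance
  let tg : Fin (n + 1) → P' := fun j => 1 ⊗ₜ algebraMap B Bg (t j)
  let f : Fin d → P' := fun i => ∑ j, algebraMap M P' (MvPolynomial.X (i.succ, j)) * tg j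
  have hψ : ∀ b : B, algebraMap P' K₀ (1 ⊗ₜ algebraMap B Bg b) = ψ₀ b := fun b => by
    show π ((1 : M) ⊗ₜ[k] algebraMap B Bg b) = _
    rw [Algebra.TensorProduct.lift_tmul, map_one, one_mul, IsLocalization.liftAlgHom_apply,
      IsLocalization.lift_eq]
    rfl
  have hX : ∀ p : σ, algebraMap M K₀ (MvPolynomial.X p) = a₀ p.1 p.2 := fun p =>
    MvPolynomial.aeval_X _ p
  have hf0 : ∀ i, algebraMap P' K₀ (f i) = 0 := fun i => by
    rw [← ha₀ i, map_sum]
    refine Finset.sum_congr rfl fun j _ => ?_
    rw [map_mul, ← IsScalarTower.algebraMap_apply, hX, hψ]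
  obtain ⟨b, hb, het⟩ := exists_etale_of_detect_field (R := M) (P := P') (K := K₀) d f hf0
    (fun D hD => by
      let DB : B →ₗ[k] K₀ :=
        { toFun := fun b => D (1 ⊗ₜ algebraMap B Bg b)
          map_add' := fun x y => by simp [TensorProduct.tmul_add]
          map_smul' := fun r x => by
            show D _ = r • D _
            rw [Algebra.smul_def, map_mul, ← IsScalarTower.algebraMap_apply, ← Algebra.smul_def,
              TensorProduct.tmul_smul, ← algebraMap_smul M r, D.map_smul, algebraMap_smul] }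
      have hDB : IsTan ψ₀ DB := fun x y => by
        show D _ = ψ₀ x * D _ + ψ₀ y * D _
        rw [map_mul, ← one_mul (1 : M), ← Algebra.TensorProduct.tmul_mul_tmul, one_mul, D.leibniz,
          Algebra.smul_def, Algebra.smul_def, hψ, hψ]
      have hzero := htan _ ⟨DB, hDB, fun j => rfl⟩ fun i => by
        have h1 := hD i
        rw [map_sum] at h1
        rw [← h1]
        refine Finset.sum_congr rfl fun j _ => ?_
        rw [← Algebra.smul_def, D.map_smul, Algebra.smul_def, hX]
        rfl
      have hDB0 : ∀ b : B, DB b = 0 := fun b => by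
        have hb : b ∈ Algebra.adjoin k (Set.range t) := hgen ▸ Algebra.mem_top
        induction hb using Algebra.adjoin_induction with
        | mem x hx => obtain ⟨j, rfl⟩ := hx; exact congrFun hzero j
        | algebraMap r => rw [Algebra.algebraMap_eq_smul_one, map_smul, tan_apply_one hDB, smul_zero]
        | add x y _ _ hx hy => rw [map_add, hx, hy, add_zero]
        | mul x y _ _ hx hy => rw [hDB, hx, hy, mul_zero, mul_zero, add_zero]
      ext z
      induction z using TensorProduct.induction_on with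
      | zero => simp
      | add x y hx hy => rw [map_add, hx, hy, map_add]
      | tmul m y =>
        suffices hy : D (1 ⊗ₜ y) = 0 by
          rw [show m ⊗ₜ[k] y = m • ((1 : M) ⊗ₜ[k] y) by rw [TensorProduct.smul_tmul', smul_eq_mul, mul_one],
            D.map_smul, hy, smul_zero]
          rfl
        obtain ⟨⟨x, s⟩, hs⟩ := IsLocalization.surj (Submonoid.powers g) y
        have h1 := congrArg (fun z => D ((1 : M) ⊗ₜ[k] z)) hs
        simp only at h1
        rw [← one_mul (1 : M), ← Algebra.TensorProduct.tmul_mul_tmul, D.leibniz, one_mul] at h1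
        change _ = DB x at h1
        have h2 : D ((1 : M) ⊗ₜ[k] algebraMap B Bg s) = 0 := hDB0 s
        rw [h2, smul_zero, zero_add, hDB0 x, Algebra.smul_def, hψ] at h1
        obtain ⟨m', hm'⟩ := s.2
        rcases mul_eq_zero.1 h1 with h3 | h3
        · rw [← hm', map_pow] at h3
          exact absurd (eq_zero_of_pow_eq_zero h3) hg
        · exact h3)
  let C := Localization.Away b ⧸ Ideal.span (Set.range fun i => algebraMap P' (Localization.Away b) (f i))
  let ρ : P' →+* C := (Ideal.Quotient.mk _).comp (algebraMap P' (Localization.Away b))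
  refine ⟨C, inferInstance, inferInstance,
    ρ.comp ((Algebra.TensorProduct.includeRight : Bg →ₐ[k] P').toRingHom.comp (algebraMap B Bg)), het, ?_,
    fun r => ?_, fun i => ?_⟩
  · let πb : Localization.Away b →+* K₀ :=
      IsLocalization.Away.lift b (g := algebraMap P' K₀) (isUnit_iff_ne_zero.2 hb)
    let πC : C →+* K₀ := Ideal.Quotient.lift _ πb (fun x hx => by
      induction hx using Submodule.span_induction with
      | mem x hx =>
        obtain ⟨i, rfl⟩ := hx
        rw [IsLocalization.Away.lift_eq]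
        exact hf0 i
      | zero => simp
      | add x y _ _ hx hy => simp only [map_add, hx, hy, add_zero]
      | smul r x _ hx => simp only [smul_eq_mul, map_mul, hx, mul_zero])
    exact πC.domain_nontrivial
  · show ρ ((1 : M) ⊗ₜ[k] algebraMap B Bg (algebraMap k B r)) = _
    rw [← IsScalarTower.algebraMap_apply, ← Algebra.TensorProduct.includeRight_apply, AlgHom.commutes,
      IsScalarTower.algebraMap_apply k M P']
    rfl
  · have hz : ρ (f i) = 0 := Ideal.Quotient.eq_zero_iff_mem.2 (Ideal.subset_span ⟨i, rfl⟩)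
    rw [← hz, map_sum]
    exact Finset.sum_congr rfl fun j _ => by rw [map_mul]; rfl

/-- Outside a hypersurface, a nonzero étale algebra over a polynomial ring has points. -/
theorem exists_poly_of_etale {σ : Type} (C : Type u) [CommRing C] [Algebra (MvPolynomial σ k) C]
    [Algebra.Etale (MvPolynomial σ k) C] [Nontrivial C] :
    ∃ P : MvPolynomial σ k, P ≠ 0 ∧ ∀ (K : Type u) [Field K] [Algebra (MvPolynomial σ k) K],
      algebraMap (MvPolynomial σ k) K P ≠ 0 →
      ∃ (K' : Type u) (_ : Field K') (ι : K →+* K') (φ : C →+* K'),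
        φ.comp (algebraMap (MvPolynomial σ k) C) = ι.comp (algebraMap (MvPolynomial σ k) K) := by
  let M := MvPolynomial σ k
  have hopen : IsOpen (Set.range (PrimeSpectrum.comap (algebraMap M C))) :=
    PrimeSpectrum.isOpenMap_comap_of_hasGoingDown_of_finitePresentation.isOpen_range
  obtain ⟨q⟩ : Nonempty (PrimeSpectrum C) := inferInstance
  obtain ⟨_, ⟨_, ⟨P, rfl⟩, rfl⟩, hP0, hP⟩ :=
    PrimeSpectrum.isBasis_basic_opens.exists_subset_of_mem_open
      (show PrimeSpectrum.comap (algebraMap M C) q ∈ Set.range (PrimeSpectrum.comap (algebraMap M C)) from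
        ⟨q, rfl⟩) hopen
  refine ⟨P, fun h => ?_, fun K _ _ ha => ?_⟩
  · subst h
    simp at hP0
  obtain ⟨p, hpk⟩ : ∃ p : PrimeSpectrum M, p.asIdeal = RingHom.ker (algebraMap M K) :=
    ⟨⟨RingHom.ker (algebraMap M K), RingHom.ker_isPrime _⟩, rfl⟩
  have hp : p ∈ Set.range (PrimeSpectrum.comap (algebraMap M C)) :=
    hP (fun h => ha (RingHom.mem_ker.1 (hpk.le h)))
  haveI := (PrimeSpectrum.nontrivial_iff_mem_rangeComap p).2 hp
  let R := p.asIdeal.ResidueField
  let L := R ⊗[M] C
  let ι : R →ₐ[M] K :=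
    IsFractionRing.liftAlgHom (R := M) (A := M ⧸ p.asIdeal)
      (g := Ideal.Quotient.liftₐ p.asIdeal (Algebra.ofId M K) fun a ha => RingHom.mem_ker.1 (hpk.le ha))
      (fun x y hxy => by
        obtain ⟨x, rfl⟩ := Ideal.Quotient.mk_surjective x
        obtain ⟨y, rfl⟩ := Ideal.Quotient.mk_surjective y
        rw [Ideal.Quotient.eq]
        refine hpk.ge ?_
        rw [RingHom.mem_ker, map_sub, sub_eq_zero]
        exact hxy)
  letI : Algebra R K := ι.toRingHom.toAlgebra
  have hinj : Function.Injective (Algebra.TensorProduct.includeRight : L →ₐ[R] K ⊗[R] L) :=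
    Algebra.TensorProduct.includeRight_injective (algebraMap R K).injective
  haveI := hinj.nontrivial
  obtain ⟨Q, hQ⟩ := Ideal.exists_maximal (K ⊗[R] L)
  letI : Field ((K ⊗[R] L) ⧸ Q) := Ideal.Quotient.field Q
  refine ⟨(K ⊗[R] L) ⧸ Q, inferInstance,
    (Ideal.Quotient.mk Q).comp Algebra.TensorProduct.includeLeftRingHom,
    (Ideal.Quotient.mk Q).comp ((Algebra.TensorProduct.includeRight : L →ₐ[R] K ⊗[R] L).toRingHom.comp
      (Algebra.TensorProduct.includeRight : C →ₐ[M] L).toRingHom), RingHom.ext fun m => ?_⟩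
  show Ideal.Quotient.mk Q ((1 : K) ⊗ₜ[R] ((1 : R) ⊗ₜ[M] algebraMap M C m)) =
    Ideal.Quotient.mk Q (algebraMap M K m ⊗ₜ[R] (1 : L))
  congr 1
  rw [← Algebra.TensorProduct.includeRight_apply (R := M) (A := R), AlgHom.commutes,
    Algebra.TensorProduct.algebraMap_apply, ← ι.commutes m]
  show _ = algebraMap R K (algebraMap M R m) ⊗ₜ[R] (1 : L)
  rw [Algebra.algebraMap_eq_smul_one (A := K), TensorProduct.smul_tmul]
  congr 1
  show _ = algebraMap M R m • ((1 : R) ⊗ₜ[M] (1 : C))
  rw [TensorProduct.smul_tmul', smul_eq_mul, mul_one]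

theorem exists_poly_nonempty {t : Fin (n + 1) → B} {c : Fin (n + 1)} (hc : t c = 1)
    (hgen : Algebra.adjoin k (Set.range t) = ⊤) {d : ℕ} (hdim : TanDim k t d)
    {K₀ : Type u} [Field K₀] [Algebra k K₀] (ψ₀ : B →ₐ[k] K₀) (g : B) (hg : ψ₀ g ≠ 0)
    [Algebra.IsStandardSmoothOfRelativeDimension d k (Localization.Away g)] :
    ∃ P : MvPolynomial (Fin (d + 1) × Fin (n + 1)) k, P ≠ 0 ∧
      ∀ (K : Type u) [Field K] [Algebra k K] (a : Fin (d + 1) → Fin (n + 1) → K),
        MvPolynomial.aeval (fun p => a p.1 p.2) P ≠ 0 →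
        ∃ (K' : Type u) (_ : Field K') (_ : Algebra k K') (ι : K →ₐ[k] K') (ψ : B →ₐ[k] K'),
          ∀ i : Fin d, ∑ j, ι (a i.succ j) * ψ (t j) = 0 := by
  obtain ⟨C, _, _, ψC, _, _, hk, hz⟩ := exists_etale_family hc hgen hdim ψ₀ g hg
  obtain ⟨P, hP, hP'⟩ := exists_poly_of_etale (k := k) (σ := Fin (d + 1) × Fin (n + 1)) C
  refine ⟨P, hP, fun K _ _ a ha => ?_⟩
  let σ := Fin (d + 1) × Fin (n + 1)
  letI : Algebra (MvPolynomial σ k) K := (MvPolynomial.aeval fun p : σ => a p.1 p.2).toRingHom.toAlgebra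
  obtain ⟨K', _, ι, φ, hφ⟩ := hP' K ha
  letI : Algebra k K' := (ι.comp (algebraMap k K)).toAlgebra
  refine ⟨K', inferInstance, inferInstance, { ι with commutes' := fun r => rfl },
    { φ.comp ψC with commutes' := fun r => ?_ }, fun i => ?_⟩
  · show φ (ψC (algebraMap k B r)) = ι (algebraMap k K r)
    rw [hk]
    refine (RingHom.congr_fun hφ (MvPolynomial.C r)).trans (congrArg ι ?_)
    exact MvPolynomial.aeval_C _ r
  · have h1 := congrArg φ (hz i)
    rw [map_zero, map_sum] at h1
    rw [← h1]
    refine Finset.sum_congr rfl fun j _ => ?_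
    rw [map_mul]
    congr 1
    exact (congrArg ι (MvPolynomial.aeval_X (fun p : σ => a p.1 p.2) (i.succ, j)).symm).trans
      (RingHom.congr_fun hφ _).symm

end Groth.RedSub2.EtSection
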